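import Mathlib

/-!
# Fixed points of coprime operators on orbits of abelian groups
-/

set_option autoImplicit false
set_option linter.style.haveILetI false

namespace CfsgLib.DegreeTools.OddSection

/-- An inverse modulo `N`. -/
theorem exists_inv_mod {a N : ℕ} (h : a.Coprime N) : ∃ r, a * r ≡ 1 [MOD N] := by
  rcases le_or_gt N 1 with hN | hN
  · interval_cases N
    · exact ⟨1, by rw [(Nat.coprime_zero_right a).1 h]⟩
    · exact ⟨1, Nat.modEq_one⟩
  · obtain ⟨r, -, hr⟩ := Nat.exists_mul_mod_eq_one_of_coprime h hN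
    exact ⟨r, by unfold Nat.ModEq; rw [hr, Nat.mod_eq_of_lt hN]⟩

theorem pow_congr {M : Type*} [Monoid M] {a : M} {N i j : ℕ} (ha : a ^ N = 1)
    (h : i ≡ j [MOD N]) : a ^ i = a ^ j := by
  rw [pow_eq_pow_mod i ha, pow_eq_pow_mod j ha, h]

/-- A map commuting with a group of order prime to its period cannot move a point inside the
orbit of that point. -/
theorem fixed_of_mem_orbit {C X : Type*} [Group C] [Finite C] [MulAction C X] (σ : X → X)
    (hσ : ∀ (c : C) (y : X), σ (c • y) = c • σ y) {n : ℕ} (hcop : n.Coprime (Nat.card C))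
    {x : X} (hn : σ^[n] x = x) {c : C} (hx : σ x = c • x) : σ x = x := by
  have hi : ∀ i : ℕ, σ^[i] x = c ^ i • x := by
    intro i
    induction i with
    | zero => simp
    | succ i ih => rw [Function.iterate_succ_apply', ih, hσ, hx, pow_succ, mul_smul]
  have h1 : c ^ n ∈ MulAction.stabilizer C x := by
    rw [MulAction.mem_stabilizer_iff, ← hi, hn]
  have hc : c ∈ MulAction.stabilizer C x := by
    obtain ⟨m, hm⟩ := exists_inv_mod hcop
    rw [← pow_one c, pow_congr (pow_card_eq_one' (x := c)) hm.symm, pow_mul]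
    exact pow_mem h1 m
  rw [hx]; exact hc

variable {S D X : Type*} [Group S] [Finite S] [CommGroup D] [MulAction D X] [MulAction S X]
  (φ : S →* MulAut D)

/-- An orbit of an abelian group that is stable under a coprime operator group contains a fixed
point. -/
theorem exists_fixed (hcomp : ∀ (s : S) (d : D) (x : X), s • d • x = φ s d • s • x) {N : ℕ}
    (hN : ∀ d : D, d ^ N = 1) (hcop : (Nat.card S).Coprime N) (x : X)
    (hx : ∀ s : S, ∃ d : D, s • x = d • x) : ∃ d : D, ∀ s : S, s • d • x = d • x := by
  classical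
  haveI := Fintype.ofFinite S
  choose e he using hx
  set St := MulAction.stabilizer D x
  have key : ∀ t s : S, φ t (e s) * e t * (e (t * s))⁻¹ ∈ St := fun t s => by
    rw [MulAction.mem_stabilizer_iff]
    have h : (φ t (e s) * e t) • x = e (t * s) • x := by
      rw [mul_smul, ← he t, ← hcomp, ← he s, ← mul_smul, he]
    rw [mul_comm (φ t (e s) * e t), mul_smul, h, inv_smul_smul]
  set P := ∏ s, e s with hP
  have hprod : ∀ t : S, φ t P * e t ^ Nat.card S * P⁻¹ ∈ St := fun t => by
    have h := St.prod_mem (t := (Finset.univ : Finset S)) fun s _ => key t s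
    rw [Finset.prod_mul_distrib, Finset.prod_mul_distrib, ← map_prod, Finset.prod_const,
      Finset.card_univ, Finset.prod_inv_distrib,
      ← Nat.card_eq_fintype_card,
      show (∏ s, e (t * s)) = P from Equiv.prod_comp (Equiv.mulLeft t) e] at h
    exact h
  obtain ⟨r, hr⟩ := exists_inv_mod hcop
  refine ⟨P ^ r, fun t => ?_⟩
  have hmem : (φ t (P ^ r) * e t) * (P ^ r)⁻¹ ∈ St := by
    have h := pow_mem (hprod t) r
    rwa [mul_pow, mul_pow, ← map_pow, ← pow_mul, pow_congr (hN _) hr, pow_one,
      inv_pow] at h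
  rw [hcomp, he, ← mul_smul]
  rw [mul_comm, MulAction.mem_stabilizer_iff, mul_smul] at hmem
  exact inv_smul_eq_iff.1 hmem

/-- Two fixed points in one orbit coincide when the operators fix only the identity. -/
theorem fixed_unique (hcomp : ∀ (s : S) (d : D) (x : X), s • d • x = φ s d • s • x) {N : ℕ}
    (hN : ∀ d : D, d ^ N = 1) (hcop : (Nat.card S).Coprime N)
    (hfpf : ∀ d : D, (∀ s : S, φ s d = d) → d = 1) {x : X} (hx : ∀ s : S, s • x = x) {d : D}
    (hd : ∀ s : S, s • d • x = d • x) : d • x = x := by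
  classical
  haveI := Fintype.ofFinite S
  set St := MulAction.stabilizer D x
  have key : ∀ s : S, φ s d * d⁻¹ ∈ St := fun s => by
    have h := hd s
    rw [hcomp, hx] at h
    rw [MulAction.mem_stabilizer_iff, mul_comm, mul_smul, h, inv_smul_smul]
  have hP : ∏ s, φ s d = 1 := hfpf _ fun t => by
    rw [map_prod]
    exact Fintype.prod_equiv (Equiv.mulLeft t) _ _ fun s => by simp
  have h := St.prod_mem (t := (Finset.univ : Finset S)) fun s _ => key s
  rw [Finset.prod_mul_distrib, hP, one_mul, Finset.prod_const, Finset.card_univ, inv_pow,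
    inv_mem_iff, ← Nat.card_eq_fintype_card] at h
  obtain ⟨r, hr⟩ := exists_inv_mod hcop
  have h2 := pow_mem h r
  rwa [← pow_mul, pow_congr (hN _) hr, pow_one, MulAction.mem_stabilizer_iff] at h2

end CfsgLib.DegreeTools.OddSection
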