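import Mathlib
import Cfsg.Agent.Lib.DegreeTools.OddSection.Torsor

/-!
# The invariant linear form of a group of odd exponent and class at most two
-/

set_option autoImplicit false
set_option linter.style.haveILetI false
set_option linter.unusedSectionVars false

open scoped commutatorElement

namespace CfsgLib.DegreeTools.OddSection

variable {E : Type*} [Group E]

/-- The symmetric operation. -/
def bop (k : ℕ) (x y : E) : E := x * y * ⁅y, x⁆ ^ k

section Rules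

variable (hc : ∀ x y z : E, Commute ⁅x, y⁆ z)
include hc

theorem comm_mul_left (a b c : E) : ⁅a * b, c⁆ = ⁅a, c⁆ * ⁅b, c⁆ := by
  calc ⁅a * b, c⁆ = a * ⁅b, c⁆ * a⁻¹ * ⁅a, c⁆ := by simp [commutatorElement_def, mul_assoc]
    _ = ⁅b, c⁆ * ⁅a, c⁆ := by rw [← (hc b c a).eq, mul_inv_cancel_right]
    _ = ⁅a, c⁆ * ⁅b, c⁆ := (hc b c _).eq

theorem comm_mul_right (a b c : E) : ⁅a, b * c⁆ = ⁅a, b⁆ * ⁅a, c⁆ := by
  rw [← commutatorElement_inv (b * c) a, comm_mul_left hc, mul_inv_rev, commutatorElement_inv,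
    commutatorElement_inv, (hc a c _).eq]

theorem comm_inv_left (a c : E) : ⁅a⁻¹, c⁆ = ⁅c, a⁆ := by
  have h := comm_mul_left hc a a⁻¹ c
  rw [mul_inv_cancel, commutatorElement_one_left] at h
  rw [eq_inv_of_mul_eq_one_right h.symm, commutatorElement_inv]

theorem comm_pow_left (a c : E) (n : ℕ) : ⁅a ^ n, c⁆ = ⁅a, c⁆ ^ n := by
  induction n with
  | zero => simp
  | succ n ih => rw [pow_succ, comm_mul_left hc, ih, pow_succ]

theorem comm_bop_left (k : ℕ) (x y z : E) : ⁅bop k x y, z⁆ = ⁅x, z⁆ * ⁅y, z⁆ := by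
  have h1 : ⁅⁅y, x⁆ ^ k, z⁆ = 1 :=
    commutatorElement_eq_one_iff_mul_comm.2 ((hc y x z).pow_left k).eq
  rw [bop, comm_mul_left hc, comm_mul_left hc, h1, mul_one]

theorem comm_bop_right (k : ℕ) (x y z : E) : ⁅z, bop k x y⁆ = ⁅z, x⁆ * ⁅z, y⁆ := by
  rw [← commutatorElement_inv (bop k x y) z, comm_bop_left hc, mul_inv_rev, commutatorElement_inv,
    commutatorElement_inv, (hc z y _).eq]

variable {N : ℕ} (hN : Odd N) (hexp : ∀ x : E, x ^ N = 1)
include hN hexp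

theorem comm_half (x y : E) : ⁅x, y⁆ * ⁅y, x⁆ ^ ((N + 1) / 2) = ⁅x, y⁆ ^ ((N + 1) / 2) := by
  obtain ⟨t, rfl⟩ := hN
  rw [show (2 * t + 1 + 1) / 2 = t + 1 by omega, ← commutatorElement_inv x y, inv_pow,
    mul_inv_eq_iff_eq_mul, ← pow_add, show t + 1 + (t + 1) = 2 * t + 1 + 1 by omega, pow_succ,
    hexp, one_mul]

theorem bop_comm (x y : E) : bop ((N + 1) / 2) x y = bop ((N + 1) / 2) y x := by
  have h : x * y = y * x * ⁅x, y⁆ := by
    rw [← (hc x y (y * x)).eq, commutatorElement_def]; group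
  rw [bop, bop, h, mul_assoc, comm_half hc hN hexp]

theorem bop_assoc (k : ℕ) (x y z : E) : bop k (bop k x y) z = bop k x (bop k y z) := by
  show bop k x y * z * ⁅z, bop k x y⁆ ^ k = x * bop k y z * ⁅bop k y z, x⁆ ^ k
  rw [comm_bop_right hc, comm_bop_left hc, bop, bop, (hc z x _).mul_pow, (hc y x _).mul_pow]
  have h1 := ((hc y x z).pow_left k).eq
  have h2 : Commute (⁅y, x⁆ ^ k) (⁅z, x⁆ ^ k * ⁅z, y⁆ ^ k) := ((hc y x _).pow_left k)
  calc x * y * ⁅y, x⁆ ^ k * z * (⁅z, x⁆ ^ k * ⁅z, y⁆ ^ k)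
      = x * y * z * (⁅y, x⁆ ^ k * (⁅z, x⁆ ^ k * ⁅z, y⁆ ^ k)) := by
        rw [mul_assoc (x * y), h1]; simp only [mul_assoc]
    _ = x * y * z * (⁅z, y⁆ ^ k * (⁅y, x⁆ ^ k * ⁅z, x⁆ ^ k)) := by
        congr 1
        rw [← ((hc z y (⁅y, x⁆ ^ k * ⁅z, x⁆ ^ k)).pow_left k).eq.symm, mul_assoc]
    _ = x * (y * z * ⁅z, y⁆ ^ k) * (⁅y, x⁆ ^ k * ⁅z, x⁆ ^ k) := by simp only [mul_assoc]

theorem bop_one (k : ℕ) (x : E) : bop k 1 x = x := by simp [bop]

theorem one_bop (k : ℕ) (x : E) : bop k x 1 = x := by simp [bop]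

theorem inv_bop (k : ℕ) (x : E) : bop k x⁻¹ x = 1 := by
  have : ⁅x, x⁻¹⁆ = 1 := commutatorElement_eq_one_iff_mul_comm.2 (by simp)
  simp [bop, this]

/-- A copy of the group for the symmetric operation. -/
structure Baer (E : Type*) where
  /-- The underlying element. -/
  val : E

/-- The abelian group of the symmetric operation. -/
@[reducible] def baerGroup : CommGroup (Baer E) where
  mul x y := ⟨bop ((N + 1) / 2) x.val y.val⟩
  one := ⟨1⟩
  inv x := ⟨x.val⁻¹⟩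
  mul_assoc x y z := congrArg Baer.mk (bop_assoc hc hN hexp _ x.val y.val z.val)
  one_mul x := congrArg Baer.mk (bop_one hc hN hexp _ x.val)
  mul_one x := congrArg Baer.mk (one_bop hc hN hexp _ x.val)
  inv_mul_cancel x := congrArg Baer.mk (inv_bop hc hN hexp _ x.val)
  mul_comm x y := congrArg Baer.mk (bop_comm hc hN hexp x.val y.val)

end Rules

variable [Finite E] {Z : Subgroup E} (hZ : Z ≤ Subgroup.center E) (hcZ : ∀ x y : E, ⁅x, y⁆ ∈ Z)
  {N : ℕ} (hN : Odd N) (hexp : ∀ x : E, x ^ N = 1) {S : Type*} [Group S] [Finite S]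
  (φ : S →* MulAut E) (hφ : ∀ s, ∀ z ∈ Z, φ s z = z) (hcop : (Nat.card S).Coprime N)

theorem map_bop {k : ℕ} (f : MulAut E) (x y : E) : f (bop k x y) = bop k (f x) (f y) := by
  simp [bop, map_commutatorElement]

include hZ hcZ in
theorem comm_commute (x y z : E) : Commute ⁅x, y⁆ z :=
  (Subgroup.mem_center_iff.1 (hZ (hcZ x y)) z).symm

include hZ in
theorem bop_of_mem (k : ℕ) {x : E} {z : E} (hz : z ∈ Z) : bop k x z = x * z := by
  have : ⁅z, x⁆ = 1 :=
    commutatorElement_eq_one_iff_mul_comm.2 (Subgroup.mem_center_iff.1 (hZ hz) x).symm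
  rw [bop, this, one_pow, mul_one]

include hZ hcZ hN hexp hφ hcop in
/-- An invariant form extending a given character of the central subgroup. -/
theorem exists_form (ι : Z →* ℂˣ) : ∃ ℓ : E → ℂˣ,
    (∀ x y, ℓ (bop ((N + 1) / 2) x y) = ℓ x * ℓ y) ∧ (∀ z : Z, ℓ z = ι z)
      ∧ ∀ s x, ℓ (φ s x) = ℓ x := by
  classical
  haveI := Fintype.ofFinite S
  letI := baerGroup (comm_commute hZ hcZ) hN hexp
  haveI : Finite (Baer E) := Finite.of_injective Baer.val fun a b h => by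
    cases a; cases b; simp_all
  haveI : NeZero (Monoid.exponent (Baer E)) := ⟨Monoid.exponent_ne_zero_of_finite⟩
  have hmul : ∀ a b : Baer E, (a * b).val = bop ((N + 1) / 2) a.val b.val := fun _ _ => rfl
  let Z' : Subgroup (Baer E) :=
    { carrier := {w | w.val ∈ Z}
      one_mem' := Z.one_mem
      mul_mem' := fun {a b} ha hb => by
        show (a * b).val ∈ Z
        rw [hmul, bop_of_mem hZ _ hb]; exact mul_mem ha hb
      inv_mem' := fun ha => Z.inv_mem ha }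
  let ι' : Z' →* ℂˣ :=
    { toFun := fun w => ι ⟨w.1.val, w.2⟩
      map_one' := map_one ι
      map_mul' := fun a b => by
        rw [← map_mul]; exact congrArg ι (Subtype.ext (bop_of_mem hZ _ b.2)) }
  obtain ⟨L, hL⟩ := MonoidHom.domRestrict_surjective (M := ℂ) Z' ι'
  have hL' : ∀ z : Z, L ⟨(z : E)⟩ = ι z := fun z =>
    (DFunLike.congr_fun hL ⟨⟨(z : E)⟩, z.2⟩ :)
  have hadd : ∀ x y : E, L ⟨bop ((N + 1) / 2) x y⟩ = L ⟨x⟩ * L ⟨y⟩ := fun x y => by
    rw [← map_mul]; rfl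
  obtain ⟨r, hr⟩ := exists_inv_mod hcop
  refine ⟨fun x => (∏ s : S, L ⟨φ s x⟩) ^ r, fun x y => ?_, fun z => ?_, fun t x => ?_⟩
  · simp only [map_bop, hadd, Finset.prod_mul_distrib, mul_pow]
  · simp only [hφ _ _ z.2, hL', Finset.prod_const, Finset.card_univ, ← Nat.card_eq_fintype_card,
      ← pow_mul]
    have hz : ι z ^ N = 1 := by
      rw [← map_pow, show z ^ N = 1 from Subtype.ext (by simpa using hexp (z : E)), map_one]
    rw [pow_congr hz hr, pow_one]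
  · show (∏ s : S, L ⟨φ s (φ t x)⟩) ^ r = (∏ s : S, L ⟨φ s x⟩) ^ r
    congr 1
    refine Fintype.prod_equiv (Equiv.mulRight t) _ _ fun s => ?_
    rw [Equiv.coe_mulRight, map_mul, MulAut.mul_apply]

include hZ hcZ hN hexp hφ hcop in
/-- The invariant form is unique. -/
theorem form_unique (hfix : ∀ x, (∀ s, φ s x = x) → x ∈ Z) {ℓ ℓ' : E → ℂˣ}
    (h1 : ∀ x y, ℓ (bop ((N + 1) / 2) x y) = ℓ x * ℓ y)
    (h1' : ∀ x y, ℓ' (bop ((N + 1) / 2) x y) = ℓ' x * ℓ' y) (h2 : ∀ z ∈ Z, ℓ z = ℓ' z)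
    (h3 : ∀ s x, ℓ (φ s x) = ℓ x) (h3' : ∀ s x, ℓ' (φ s x) = ℓ' x) : ℓ = ℓ' := by
  classical
  haveI := Fintype.ofFinite S
  letI := baerGroup (comm_commute hZ hcZ) hN hexp
  let d : Baer E →* ℂˣ := MonoidHom.mk' (fun w => ℓ w.val * (ℓ' w.val)⁻¹) fun a b => by
    show ℓ (bop _ a.val b.val) * (ℓ' (bop _ a.val b.val))⁻¹ = _
    rw [h1, h1', mul_inv]; exact mul_mul_mul_comm _ _ _ _
  funext x
  set P : Baer E := ∏ s : S, ⟨φ s x⟩
  have hPmem : P.val ∈ Z := hfix _ fun t => by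
    let f : Baer E →* Baer E := MonoidHom.mk' (fun w => ⟨φ t w.val⟩) fun a b =>
      congrArg Baer.mk (map_bop _ _ _)
    have hfP : f P = P := by
      rw [map_prod]
      refine Fintype.prod_equiv (Equiv.mulLeft t) _ _ fun s => ?_
      show (⟨φ t (φ s x)⟩ : Baer E) = ⟨φ (t * s) x⟩
      rw [map_mul]; rfl
    exact congrArg Baer.val hfP
  have hd : d ⟨x⟩ ^ Nat.card S = 1 := by
    have e : d P = d ⟨x⟩ ^ Nat.card S := by
      rw [map_prod, Nat.card_eq_fintype_card, ← Finset.card_univ, ← Finset.prod_const]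
      exact Finset.prod_congr rfl fun s _ => by simp [d, h3, h3']
    rw [← e]
    show ℓ P.val * (ℓ' P.val)⁻¹ = 1
    rw [h2 _ hPmem, mul_inv_cancel]
  have hdN : d ⟨x⟩ ^ N = 1 := by
    have hpow : ∀ (w : Baer E) (n : ℕ), (w ^ n).val = w.val ^ n := fun w n => by
      induction n with
      | zero => simp; rfl
      | succ n ih =>
        rw [pow_succ, pow_succ]
        show bop _ (w ^ n).val w.val = _
        rw [ih, bop, commutatorElement_eq_one_iff_mul_comm.2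
          ((Commute.refl w.val).pow_right n).eq, one_pow, mul_one]
    rw [← map_pow, show (⟨x⟩ : Baer E) ^ N = 1 from by
      have h := hpow ⟨x⟩ N
      rw [hexp] at h
      exact congrArg Baer.mk h, map_one]
  have h : d ⟨x⟩ ^ (Nat.card S).gcd N = 1 := pow_gcd_eq_one.2 ⟨hd, hdN⟩
  rw [hcop, pow_one] at h
  exact mul_inv_eq_one.1 h

end CfsgLib.DegreeTools.OddSection
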