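import Cfsg.Agent.Lib.DegreeTools.OddSection.Parity
import Cfsg.Agent.Lib.CharDeep.GenChar
import Cfsg.Agent.Lib.CharDeep.Imprimitive
import Cfsg.Agent.Lib.Char.Virtual
import Cfsg.Agent.Lib.Char.CliffordCorr

/-!
# Parity of multiplicities over a character with a parity involution
-/

set_option autoImplicit false
set_option linter.style.haveILetI false
set_option linter.unusedSectionVars false

open scoped Classical ComplexConjugate
open Module

namespace CfsgLib.DegreeTools.OddSection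

open CfsgLib CfsgLib.CharDeep CfsgLib.CharDeep.HomogLift CfsgLib.CharDeep.Implementers

variable {G : Type*} [Group G] [Fintype G] {K H L : Subgroup G} [hKn : K.Normal] [Fintype K]
  [Fintype H]
  (hLK : L ≤ K) (hLH : L ≤ H) (hKH : ∀ x, x ∈ K → x ∈ H → x ∈ L)
  (hG : ∀ g : G, ∃ h ∈ H, ∃ k ∈ K, g = h * k)

/-- Odd multiplicity of a character of a subgroup in a restriction. -/
def OddMult (H : Subgroup G) [Fintype H] (χ : G → ℂ) (ψ : H → ℂ) : Prop :=
  ∃ m : ℕ, Cfsg.classInner (fun h : H => χ h) ψ = (m : ℂ) ∧ Odd m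

include hLH hKH hG hLK in
/-- Summing over the two factors. -/
theorem sum_factor (F : G → ℂ) :
    ∑ h : H, ∑ k : K, F ((h : G) * (k : G)) = (Nat.card L : ℂ) * ∑ g : G, F g := by
  rw [← Fintype.sum_prod_type' (f := fun (h : H) (k : K) => F ((h : G) * (k : G)))]
  rw [← Finset.sum_fiberwise Finset.univ (fun p : H × K => (p.1 : G) * (p.2 : G)), Finset.mul_sum]
  refine Finset.sum_congr rfl fun g _ => ?_
  rw [Finset.sum_congr rfl (g := fun _ => F g) fun p hp => by rw [(Finset.mem_filter.1 hp).2],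
    Finset.sum_const, nsmul_eq_mul]
  congr 1
  obtain ⟨h₀, hh₀, k₀, hk₀, rfl⟩ := hG g
  rw [Nat.card_eq_fintype_card, ← Finset.card_univ, Nat.cast_inj]
  refine Finset.card_bij'
    (fun p hp => (⟨h₀⁻¹ * p.1, hKH _ (by
      have h1 : h₀⁻¹ * (p.1 : G) = k₀ * (p.2 : G)⁻¹ := by
        rw [eq_mul_inv_iff_mul_eq, mul_assoc, (Finset.mem_filter.1 hp).2, inv_mul_cancel_left]
      rw [h1]; exact mul_mem hk₀ (inv_mem p.2.2)) (mul_mem (inv_mem hh₀) p.1.2)⟩ : L))
    (fun l _ => (⟨h₀ * l, mul_mem hh₀ (hLH l.2)⟩, ⟨(l : G)⁻¹ * k₀,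
      mul_mem (inv_mem (hLK l.2)) hk₀⟩)) ?_ ?_ ?_ ?_
  · intros; exact Finset.mem_univ _
  · intro l _; simp [mul_assoc]
  · intro p hp
    have h1 := (Finset.mem_filter.1 hp).2
    refine Prod.ext (Subtype.ext (mul_inv_cancel_left _ _)) (Subtype.ext ?_)
    show (h₀⁻¹ * (p.1 : G))⁻¹ * k₀ = p.2
    rw [mul_inv_rev, inv_inv, mul_assoc, ← h1, inv_mul_cancel_left]
  · intro l _; exact Subtype.ext (inv_mul_cancel_left _ _)

section Rep

variable {U : Type*} [AddCommGroup U] [Module ℂ U] [FiniteDimensional ℂ U]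
  (σ : Representation ℂ K U) [σ.IsIrreducible]
  {n : ℕ} (π : Representation ℂ G (Fin n → ℂ)) {m : ℕ}
  (hm : ∀ k : K, π.character (k : G) = (m : ℂ) * σ.character k)

/-- The restriction of the representation to the normal subgroup. -/
abbrev resK : Representation ℂ K (Fin n → ℂ) := π.comp K.subtype

include hm in
theorem commute_lift {Q : Module.End ℂ (Fin n → ℂ)}
    (hQ : ∀ k : K, Commute Q (π (k : G))) (Y : Module.End ℂ U) :
    Commute Q (lift σ (resK π) Y) := by
  rw [lift_apply]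
  exact (Commute.sum_right _ _ _ fun k _ => (hQ k).smul_right _).smul_right _

include hm in
theorem trace_lift_commutant {Q : Module.End ℂ (Fin n → ℂ)}
    (hQ : ∀ k : K, Commute Q (π (k : G))) (Y : Module.End ℂ U) :
    LinearMap.trace ℂ _ (lift σ (resK π) Y * Q)
      = LinearMap.trace ℂ U Y * LinearMap.trace ℂ _ Q / (finrank ℂ U : ℂ) := by
  have hm' : ∀ k, (resK π).character k = (m : ℂ) * σ.character k := hm
  have h := congrArg (fun Z => LinearMap.trace ℂ _ (lift σ (resK π) Z * Q)) (average_eq σ Y)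
  simp only [map_smul, map_sum, Finset.sum_mul, smul_mul_assoc, smul_eq_mul, lift_one σ _ hm',
    one_mul] at h
  rw [Finset.sum_congr rfl fun k _ => show LinearMap.trace ℂ _
      (lift σ (resK π) (σ k * Y * σ k⁻¹) * Q) = LinearMap.trace ℂ _ (lift σ (resK π) Y * Q) by
    rw [lift_mul σ _ hm', lift_mul σ _ hm', lift_sigma σ _ hm', lift_sigma σ _ hm', mul_assoc,
      mul_assoc, LinearMap.trace_mul_comm, mul_assoc, mul_assoc]
    show LinearMap.trace ℂ _ (lift σ (resK π) Y * (π ((k⁻¹ : K) : G) * (Q * π (k : G)))) = _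
    rw [(hQ k).eq, ← mul_assoc (π _), ← map_mul, ← Subgroup.coe_mul, inv_mul_cancel,
      OneMemClass.coe_one, map_one, one_mul],
    Finset.sum_const, Finset.card_univ, ← Nat.card_eq_fintype_card, nsmul_eq_mul] at h
  rw [eq_div_iff (finrank_ne_zero σ)]
  refine mul_left_cancel₀ (card_ne_zero' (N := K)) ?_
  linear_combination h

include hm in
theorem exists_factor {h : G} {A : (Module.End ℂ U)ˣ}
    (hA : Twines σ (MulAut.conjNormal h) A) :
    ∃ Q Qi : Module.End ℂ (Fin n → ℂ), (∀ k : K, Commute Q (π (k : G))) ∧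
      (∀ k : K, Commute Qi (π (k : G))) ∧ π h = lift σ (resK π) (A : Module.End ℂ U) * Q ∧
        π h⁻¹ = Qi * lift σ (resK π) (↑A⁻¹ : Module.End ℂ U) := by
  have hm' : ∀ k, (resK π).character k = (m : ℂ) * σ.character k := hm
  set lA := lift σ (resK π) (A : Module.End ℂ U) with hlA
  set lB := lift σ (resK π) (↑A⁻¹ : Module.End ℂ U) with hlB
  have h1 : lA * lB = 1 := by rw [hlA, hlB, ← lift_mul σ _ hm', Units.mul_inv, lift_one σ _ hm']
  have h2 : lB * lA = 1 := by rw [hlA, hlB, ← lift_mul σ _ hm', Units.inv_mul, lift_one σ _ hm']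
  have hl : ∀ k : K, lA * π (k : G) = π (h * k * h⁻¹) * lA := fun k => by
    have h3 := congrArg (lift σ (resK π)) (hA k)
    rw [lift_mul σ _ hm', lift_mul σ _ hm', lift_sigma σ _ hm', lift_sigma σ _ hm'] at h3
    exact h3
  refine ⟨lB * π h, π h⁻¹ * lA, fun k => ?_, fun k => ?_, ?_, ?_⟩
  · show _ = _
    calc lB * π h * π (k : G) = lB * (π (h * k * h⁻¹) * π h) := by
          rw [mul_assoc, ← map_mul, ← map_mul, inv_mul_cancel_right]
      _ = lB * (lA * π (k : G) * lB * π h) := by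
          rw [hl k, mul_assoc (π _) lA, h1, mul_one]
      _ = π (k : G) * (lB * π h) := by
          rw [← mul_assoc, ← mul_assoc, ← mul_assoc, h2, one_mul, mul_assoc]
  · show _ = _
    calc π h⁻¹ * lA * π (k : G) = π h⁻¹ * π (h * k * h⁻¹) * lA := by rw [mul_assoc, hl k, ← mul_assoc]
      _ = π ((k : G) * h⁻¹) * lA := by rw [← map_mul]; congr 2; group
      _ = π (k : G) * (π h⁻¹ * lA) := by rw [map_mul, mul_assoc]
  · rw [← mul_assoc, h1, one_mul]
  · rw [mul_assoc, h1, mul_one]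

variable (J : Module.End ℂ U) (hJ : J * J = 1)

/-- The signed trace. -/
noncomputable def signed : H → ℂ := fun h =>
  LinearMap.trace ℂ _ (π (h : G) * lift σ (resK π) J)

variable (hH : ∀ h ∈ H, ∃ A : (Module.End ℂ U)ˣ, Twines σ (MulAut.conjNormal h) A ∧
  Commute J (A : Module.End ℂ U) ∧
    ∑ l : L.subgroupOf K, LinearMap.trace ℂ U ((A : Module.End ℂ U) * J * σ (l : K))
      * LinearMap.trace ℂ U (σ (l : K)⁻¹ * (J * ↑A⁻¹)) = (Nat.card L : ℂ))
  (hJL : ∀ l : K, (l : G) ∈ L → Commute J (σ l))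

include hm hJ hH in
theorem signed_split : ∃ P M : H → ℂ, Cfsg.IsCharacter H P ∧ Cfsg.IsCharacter H M ∧
    signed σ π J = P - M ∧ (fun h : H => π.character (h : G)) = P + M := by
  have hm' : ∀ k, (resK π).character k = (m : ℂ) * σ.character k := hm
  set JW := lift σ (resK π) J with hJW
  have hsq : JW * JW = 1 := by rw [hJW, ← lift_mul σ _ hm', hJ, lift_one σ _ hm']
  have hcomm : ∀ h ∈ H, π h * JW = JW * π h := by
    intro h hh
    obtain ⟨A, hA, hAJ, -⟩ := hH h hh
    obtain ⟨Q, -, hQ, -, e, -⟩ := exists_factor σ π hm hA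
    rw [e, mul_assoc, (commute_lift σ π hm hQ J).eq, ← mul_assoc, ← mul_assoc, hJW,
      ← lift_mul σ _ hm', ← lift_mul σ _ hm', hAJ.eq]
  set E : Module.End ℂ (Fin n → ℂ) := (2 : ℂ)⁻¹ • (1 + JW) with hE
  have hEi : IsIdempotentElem E := by
    show E * E = E
    rw [hE, smul_mul_smul_comm, add_mul, mul_add, mul_add, hsq, one_mul, mul_one, one_mul]
    rw [show (1 : Module.End ℂ (Fin n → ℂ)) + JW + (JW + 1) = (2 : ℂ) • (1 + JW) by
      rw [two_smul]; abel, smul_smul]
    norm_num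
  have hEc : ∀ h ∈ H, π h * E = E * π h := fun h hh => by
    rw [hE, mul_smul_comm, smul_mul_assoc, mul_add, add_mul, mul_one, one_mul, hcomm h hh]
  refine ⟨_, _, Imprimitive.isCharacter_trace_idem π hEi hEc,
    Imprimitive.isCharacter_trace_idem π hEi.one_sub fun t ht => by
      rw [mul_sub, sub_mul, mul_one, one_mul, hEc t ht], funext fun h => ?_, funext fun h => ?_⟩
  · show LinearMap.trace ℂ _ (π (h : G) * JW) = LinearMap.trace ℂ _ (π (h : G) * E)
      - LinearMap.trace ℂ _ (π (h : G) * (1 - E))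
    rw [← map_sub, ← mul_sub, hE]
    congr 2
    module
  · show LinearMap.trace ℂ _ (π (h : G)) = LinearMap.trace ℂ _ (π (h : G) * E)
      + LinearMap.trace ℂ _ (π (h : G) * (1 - E))
    rw [← map_add, ← mul_add, add_sub_cancel, mul_one]

variable {n' : ℕ} (π' : Representation ℂ G (Fin n' → ℂ)) {m' : ℕ}
  (hm2 : ∀ k : K, π'.character (k : G) = (m' : ℂ) * σ.character k)

include hm hm2 hH hJL hLK in
theorem coset_identity {h : G} (hh : h ∈ H) (hLH' : ∀ l : L.subgroupOf K, ((l : K) : G) ∈ H) :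
    (Nat.card K : ℂ) * ∑ l : L.subgroupOf K,
        signed σ π J ⟨h * (l : K), mul_mem hh (hLH' l)⟩
          * signed σ π' J ⟨(h * (l : K))⁻¹, inv_mem (mul_mem hh (hLH' l))⟩
      = (Nat.card L : ℂ) *
        ∑ k : K, π.character (h * k) * π'.character ((h * (k : G))⁻¹) := by
  have hm' : ∀ k, (resK π).character k = (m : ℂ) * σ.character k := hm
  have hm2' : ∀ k, (resK π').character k = (m' : ℂ) * σ.character k := hm2
  obtain ⟨A, hA, hAJ, hsum⟩ := hH h hh
  obtain ⟨Q, -, hQ, -, e, -⟩ := exists_factor σ π hm hA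
  obtain ⟨-, Qi, -, hQi, -, ei⟩ := exists_factor σ π' hm2 hA
  set d : ℂ := (finrank ℂ U : ℂ) with hd
  have hd0 : d ≠ 0 := finrank_ne_zero σ
  set R : ℂ := LinearMap.trace ℂ _ Q * LinearMap.trace ℂ _ Qi with hR
  have h1 : ∀ (k : K) (Y : Module.End ℂ U), LinearMap.trace ℂ _
      (π (h * (k : G)) * lift σ (resK π) Y)
        = LinearMap.trace ℂ U ((A : Module.End ℂ U) * σ k * Y) * LinearMap.trace ℂ _ Q / d := by
    intro k Y
    rw [map_mul π, e, show π (k : G) = lift σ (resK π) (σ k) from (lift_sigma σ _ hm' k).symm,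
      mul_assoc, mul_assoc, ← lift_mul σ _ hm', (commute_lift σ π hm hQ _).eq, ← mul_assoc,
      ← lift_mul σ _ hm', trace_lift_commutant σ π hm hQ, mul_assoc]
  have h2 : ∀ (k : K) (Y : Module.End ℂ U), LinearMap.trace ℂ _
      (π' ((h * (k : G))⁻¹) * lift σ (resK π') Y)
        = LinearMap.trace ℂ U (σ k⁻¹ * ↑A⁻¹ * Y) * LinearMap.trace ℂ _ Qi / d := by
    intro k Y
    rw [mul_inv_rev, map_mul π', ei, ← Subgroup.coe_inv,
      show π' ((k⁻¹ : K) : G) = lift σ (resK π') (σ k⁻¹) from (lift_sigma σ _ hm2' k⁻¹).symm,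
      ← mul_assoc, ← (commute_lift σ π' hm2 hQi _).eq, mul_assoc Qi, ← lift_mul σ _ hm2',
      mul_assoc Qi, ← lift_mul σ _ hm2', (commute_lift σ π' hm2 hQi _).eq,
      trace_lift_commutant σ π' hm2 hQi]
  have hLs : ∀ l : L.subgroupOf K, ((l : K) : G) ∈ L := fun l => Subgroup.mem_subgroupOf.1 l.2
  have e1 : ∑ l : L.subgroupOf K, signed σ π J ⟨h * (l : K), mul_mem hh (hLH' l)⟩
      * signed σ π' J ⟨(h * (l : K))⁻¹, inv_mem (mul_mem hh (hLH' l))⟩
        = (Nat.card L : ℂ) * (R / d ^ 2) := by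
    have hAiJ : ↑A⁻¹ * J = J * ↑A⁻¹ := (Commute.units_inv_right hAJ).symm.eq
    rw [← hsum, Finset.sum_mul]
    refine Finset.sum_congr rfl fun l _ => ?_
    simp only [signed]
    rw [h1, h2, mul_assoc (A : Module.End ℂ U), ← (hJL _ (hLs l)).eq, ← mul_assoc,
      mul_assoc (σ ((l : K)⁻¹)), hAiJ, hR]
    field_simp
  have e2 : ∑ k : K, π.character (h * k) * π'.character ((h * (k : G))⁻¹)
      = (Nat.card K : ℂ) * (R / d ^ 2) := by
    have h3 := congrArg (fun Z => LinearMap.trace ℂ U (Z * ↑A⁻¹)) (schur_sum σ (A : Module.End ℂ U))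
    simp only [smul_mul_assoc, Finset.sum_mul, map_smul, map_sum, smul_eq_mul, Units.mul_inv,
      LinearMap.trace_one] at h3
    have h4 : ∑ k : K, LinearMap.trace ℂ U ((A : Module.End ℂ U) * σ k)
        * LinearMap.trace ℂ U (σ k⁻¹ * ↑A⁻¹) = (Nat.card K : ℂ) := by
      refine mul_left_cancel₀ hd0 ?_
      rw [← mul_comm (Nat.card K : ℂ) d, ← h3]
      congr 1
      refine Fintype.sum_equiv (Equiv.inv K) _ _ fun k => ?_
      simp
    rw [show (Nat.card K : ℂ) * (R / d ^ 2) = R / d ^ 2 * ∑ k : K,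
      LinearMap.trace ℂ U ((A : Module.End ℂ U) * σ k)
        * LinearMap.trace ℂ U (σ k⁻¹ * ↑A⁻¹) by rw [h4, mul_comm], Finset.mul_sum]
    refine Finset.sum_congr rfl fun k _ => ?_
    have a1 := h1 k 1
    have a2 := h2 k 1
    rw [lift_one σ _ hm', mul_one, mul_one] at a1
    rw [lift_one σ _ hm2', mul_one, mul_one] at a2
    show LinearMap.trace ℂ _ (π _) * LinearMap.trace ℂ _ (π' _) = _
    rw [a1, a2, hR]
    field_simp
  rw [e1, e2]
  ring

include hm hm2 hH hJL hJ hLK hLH hKH hG in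
theorem signed_inner : Cfsg.classInner (signed (H := H) σ π J) (signed σ π' J)
    = Cfsg.classInner π.character π'.character := by
  have hLH' : ∀ l : L.subgroupOf K, ((l : K) : G) ∈ H := fun l =>
    hLH (Subgroup.mem_subgroupOf.1 l.2)
  obtain ⟨P, M, hP, hM, hPM, -⟩ := signed_split σ π' hm2 J hJ hH
  have hconj : ∀ x : H, conj (signed σ π' J x) = signed σ π' J x⁻¹ := fun x => by
    rw [hPM, Pi.sub_apply, Pi.sub_apply, map_sub, Char.IsCharacter.apply_inv hP,
      Char.IsCharacter.apply_inv hM]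
  have hconj' : ∀ g : G, conj (π'.character g) = π'.character g⁻¹ := fun g =>
    (Char.char_inv_eq_conj π' g).symm
  simp only [Cfsg.classInner, hconj, hconj']
  set F : H → ℂ := fun x => signed σ π J x * signed σ π' J x⁻¹
  set F' : G → ℂ := fun g => π.character g * π'.character g⁻¹
  have hA : ∑ x : H, ∑ l : L.subgroupOf K, F ⟨x * (l : K), mul_mem x.2 (hLH' l)⟩
      = (Nat.card L : ℂ) * ∑ x : H, F x := by
    rw [Finset.sum_comm, Nat.card_congr (Subgroup.subgroupOfEquivOfLe hLK).symm.toEquiv,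
      Nat.card_eq_fintype_card, ← Finset.card_univ, ← nsmul_eq_mul, ← Finset.sum_const]
    exact Finset.sum_congr rfl fun l _ =>
      Fintype.sum_equiv (Equiv.mulRight (⟨((l : K) : G), hLH' l⟩ : H)) _ _ fun x => rfl
  have key : (Nat.card K : ℂ) * ((Nat.card L : ℂ) * ∑ x : H, F x)
      = (Nat.card L : ℂ) * ((Nat.card L : ℂ) * ∑ g : G, F' g) := by
    rw [← hA, ← sum_factor hLK hLH hKH hG F', Finset.mul_sum, Finset.mul_sum]
    refine Finset.sum_congr rfl fun x _ => ?_
    exact coset_identity hLK σ π hm J hH hJL π' hm2 x.2 hLH'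
  have hcard : (Nat.card H : ℂ) * (Nat.card K : ℂ) = (Nat.card L : ℂ) * (Nat.card G : ℂ) := by
    have := sum_factor hLK hLH hKH hG (fun _ => 1)
    simpa [Finset.sum_const, ← Nat.card_eq_fintype_card] using this
  have hH0 : (Nat.card H : ℂ) ≠ 0 := card_ne_zero'
  have hG0 : (Nat.card G : ℂ) ≠ 0 := card_ne_zero'
  have hK0 : (Nat.card K : ℂ) ≠ 0 := card_ne_zero'
  have hL0 : (Nat.card L : ℂ) ≠ 0 := card_ne_zero'
  show (Nat.card H : ℂ)⁻¹ * ∑ x : H, F x = (Nat.card G : ℂ)⁻¹ * ∑ g : G, F' g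
  field_simp
  refine mul_left_cancel₀ (mul_ne_zero hK0 hL0) ?_
  linear_combination (Nat.card G : ℂ) * key
    - (∑ g : G, F' g) * (Nat.card L : ℂ) * hcard

include hm hH hJL hJ hLK hLH hKH hG in
/-- Exactly one constituent of the restriction has odd multiplicity. -/
theorem exists_odd_iff [π.IsIrreducible] :
    ∃ z : ℤ, ∃ φ : Cfsg.IrrCharacter H, z ≠ 0 ∧
      signed σ π J = (z : ℂ) • (φ : H → ℂ) ∧
      ∀ ψ : Cfsg.IrrCharacter H, OddMult H π.character (ψ : H → ℂ) ↔ ψ = φ := by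
  obtain ⟨P, M, hP, hM, hPM, hχ⟩ := signed_split σ π hm J hJ hH
  have hnorm := signed_inner hLK hLH hKH hG σ π hm J hJ hH hJL π hm
  rw [Char.classInner_irr_self (Char.isIrrCharacter_of_rep π)] at hnorm
  obtain ⟨z, φ, hz, hzφ⟩ := CharDeep.GenChar.exists_sign_irr (θ := signed σ π J)
    ⟨P, M, hP, hM, hPM⟩ hnorm
  refine ⟨z, φ, by rcases hz with rfl | rfl <;> norm_num, hzφ, fun ψ => ?_⟩
  obtain ⟨a, ha⟩ := Char.IsCharacter.classInner_nat hP (Char.isCharacter_irr ψ)
  obtain ⟨b, hb⟩ := Char.IsCharacter.classInner_nat hM (Char.isCharacter_irr ψ)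
  have hsum : Cfsg.classInner (fun h : H => π.character (h : G)) (ψ : H → ℂ) = ((a + b : ℕ) : ℂ) := by
    rw [hχ, Char.classInner_add_left, ha, hb, Nat.cast_add]
  have hdiff : ((a : ℤ) - b : ℤ) = if ψ = φ then z else 0 := by
    have h1 : Cfsg.classInner (signed σ π J) (ψ : H → ℂ) = ((a : ℂ) - b) := by
      rw [hPM, Char.classInner_sub_left, ha, hb]
    rw [hzφ, Char.classInner_smul_left, Char.classInner_irrCharacter] at h1
    apply Int.cast_injective (α := ℂ)
    push_cast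
    rw [← h1]
    rcases eq_or_ne ψ φ with rfl | h
    · simp
    · simp [h, h.symm]
  constructor
  · rintro ⟨k, hk, hko⟩
    rw [hsum, Nat.cast_inj] at hk
    by_contra hne
    rw [if_neg hne] at hdiff
    obtain ⟨t, ht⟩ := hko
    omega
  · rintro rfl
    rw [if_pos rfl] at hdiff
    refine ⟨a + b, hsum, ?_⟩
    rw [Nat.odd_iff]
    rcases hz with rfl | rfl <;> omega

end Rep

section Exists

include hLK hLH hKH hG in
/-- Some character over `η` has odd multiplicity on a given character over `θ`. -/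
theorem exists_over (hLn : ∀ g : G, ∀ l ∈ L, g * l * g⁻¹ ∈ L) {η : K → ℂ} (hηinv : ∀ g : G, Char.conjG η g = η) {θ : L.subgroupOf K → ℂ}
    (hθ : Cfsg.IsIrrCharacter (L.subgroupOf K) θ) (hη : Cfsg.IsCharacter K η) {ψ : H → ℂ}
    (hψ : Cfsg.IsCharacter H ψ) {e f : ℕ} (he : Odd e) (hf : Odd f)
    (hηθ : ∀ l : L.subgroupOf K, η l = (e : ℂ) * θ l)
    (hψθ : ∀ l : L.subgroupOf K,
      ψ ⟨((l : K) : G), hLH (Subgroup.mem_subgroupOf.1 l.2)⟩ = (f : ℂ) * θ l) :
    ∃ χ : Cfsg.IrrCharacter G,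
      Cfsg.classInner (fun k : K => (χ : G → ℂ) k) η ≠ 0 ∧ OddMult H (χ : G → ℂ) ψ := by
  set Ψ := Cfsg.indFun H ψ
  have hΨ : Cfsg.IsCharacter G Ψ := Char.IsCharacter.indFun H hψ
  have he0 : (e : ℂ) ≠ 0 := Nat.cast_ne_zero.2 he.pos.ne'
  have hval : ∀ k : K, Ψ k = if k ∈ L.subgroupOf K
      then (Nat.card G : ℂ) / Nat.card H * ((f : ℂ) / e * η k) else 0 := by
    intro k
    have hterm : ∀ x : G, Cfsg.extendByZero H ψ (x⁻¹ * k * x)
        = if x⁻¹ * (k : G) * x ∈ L then (f : ℂ) / e * η k else 0 := by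
      intro x
      have hxK : x⁻¹ * (k : G) * x ∈ K := by simpa using hKn.conj_mem (k : G) k.2 x⁻¹
      split_ifs with hx
      · rw [Char.extendByZero_apply_mem H ψ (hLH hx)]
        set l : L.subgroupOf K := ⟨⟨x⁻¹ * k * x, hxK⟩, Subgroup.mem_subgroupOf.2 hx⟩
        rw [show ψ ⟨x⁻¹ * (k : G) * x, hLH hx⟩ = (f : ℂ) * θ l from hψθ l,
          ← congrFun (hηinv x⁻¹) k, Char.conjG_apply,
          show η ⟨x⁻¹ * (k : G) * x⁻¹⁻¹, _⟩ = η (l : K) from
            congrArg η (Subtype.ext (by simp [l])), hηθ l]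
        field_simp
      · exact Char.extendByZero_apply_notMem H ψ fun h => hx (hKH _ hxK h)
    show Cfsg.indFun H ψ _ = _
    rw [Char.indFun_def, Finset.sum_congr rfl fun x _ => hterm x]
    have hiff : ∀ x : G, x⁻¹ * (k : G) * x ∈ L ↔ k ∈ L.subgroupOf K := fun x => by
      rw [Subgroup.mem_subgroupOf]
      constructor
      · intro hx; simpa [mul_assoc] using hLn x _ hx
      · intro hx; simpa using hLn x⁻¹ _ hx
    simp only [hiff, Finset.sum_const, Finset.card_univ, nsmul_eq_mul, ← Nat.card_eq_fintype_card]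
    split_ifs <;> ring
  have hinner : Cfsg.classInner (fun k : K => Ψ k) η = ((f * e : ℕ) : ℂ) := by
    have hθθ := Char.classInner_irr_self hθ
    simp only [Cfsg.classInner, hval] at hθθ ⊢
    simp only [ite_mul, zero_mul]
    rw [← Finset.sum_filter, ← Finset.sum_subtype_eq_sum_filter, Finset.subtype_univ]
    simp only [hηθ, map_mul, Complex.conj_natCast]
    rw [Finset.sum_congr rfl (g := fun l : L.subgroupOf K =>
      ((Nat.card G : ℂ) / Nat.card H * f * e) * (θ l * conj (θ l))) fun l _ => by field_simp,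
      ← Finset.mul_sum]
    have hcard : (Nat.card H : ℂ) * (Nat.card K : ℂ) = (Nat.card L : ℂ) * (Nat.card G : ℂ) := by
      have := sum_factor hLK hLH hKH hG (fun _ => 1)
      simpa [Finset.sum_const, ← Nat.card_eq_fintype_card] using this
    rw [inv_mul_eq_one₀ card_ne_zero',
      Nat.card_congr (Subgroup.subgroupOfEquivOfLe hLK).toEquiv] at hθθ
    rw [← hθθ]
    have hH0 : (Nat.card H : ℂ) ≠ 0 := card_ne_zero'
    have hK0 : (Nat.card K : ℂ) ≠ 0 := card_ne_zero'
    push_cast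
    field_simp
    linear_combination (-(f : ℂ)) * hcard
  choose a ha using fun χ : Cfsg.IrrCharacter G =>
    Char.IsCharacter.classInner_nat (Char.IsCharacter.restrict (Char.isCharacter_irr χ) H) hψ
  choose b hb using fun χ : Cfsg.IrrCharacter G =>
    Char.IsCharacter.classInner_nat (Char.IsCharacter.restrict (Char.isCharacter_irr χ) K) hη
  have hexp := Char.IsClassFunction.eq_sum_irr (Char.IsCharacter.isClassFunction hΨ)
  have hsum : f * e = ∑ χ, a χ * b χ := by
    apply Nat.cast_injective (R := ℂ)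
    rw [← hinner, show (fun k : K => Ψ k) = ∑ χ : Cfsg.IrrCharacter G,
      Cfsg.classInner Ψ (χ : G → ℂ) • fun k : K => (χ : G → ℂ) k from funext fun k => by
        conv_lhs => rw [hexp]
        simp only [Finset.sum_apply, Pi.smul_apply],
      Char.classInner_sum_left]
    push_cast
    refine Finset.sum_congr rfl fun χ _ => ?_
    rw [Char.classInner_smul_left, hb, Char.classInner_indFun H ψ
      (Char.IsIrrCharacter.isClassFunction χ.2), Char.IsCharacter.classInner_comm hψ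
      (Char.IsCharacter.restrict (Char.isCharacter_irr χ) H), ha]
  obtain ⟨χ, hχ⟩ : ∃ χ, Odd (a χ * b χ) := by
    by_contra h
    push Not at h
    have h2 : Even (∑ χ, a χ * b χ) := Finset.even_sum _ fun χ _ => Nat.not_odd_iff_even.1 (h χ)
    rw [← hsum] at h2
    exact Nat.not_even_iff_odd.2 (hf.mul he) h2
  refine ⟨χ, ?_, a χ, ha χ, (Nat.odd_mul.1 hχ).1⟩
  rw [hb]
  exact Nat.cast_ne_zero.2 (Nat.odd_mul.1 hχ).2.pos.ne'

end Exists

end CfsgLib.DegreeTools.OddSection
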