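import Cfsg.Agent.Lib.DegreeTools.OddSection.Invariant

/-!
# Fixed constituents on the bottom of an odd coprime section
-/

set_option autoImplicit false
set_option linter.style.haveILetI false
set_option linter.unusedSectionVars false

open scoped Classical ComplexConjugate commutatorElement

namespace CfsgLib.DegreeTools.OddSection

open CfsgLib CfsgLib.CharDeep

variable {G : Type*} [Group G] [Fintype G] {S : Type*} [Group S] [Finite S]
  {a : S →* MulAut G} {K L C H : Subgroup G} [hKn : K.Normal] [hLn : L.Normal] [Fintype K]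
  [Fintype L] [Fintype H] (hS : Sect a K L C H)

/-- The twist of a function on `L`. -/
def tw (a : S →* MulAut G) (L : Subgroup G) (hL : ∀ s, ∀ l ∈ L, a s l ∈ L) (s : S) (φ : L → ℂ) :
    L → ℂ := φ ∘ restrictAut a L hL s

include hS

theorem tw_conjG (s : S) (φ : L → ℂ) (g : G) :
    tw a L hS.stL s (Char.conjG φ g) = Char.conjG (tw a L hS.stL s φ) (a s⁻¹ g) := by
  funext l
  show φ _ = φ _
  refine congrArg φ (Subtype.ext ?_)
  show g * a s (l : G) * g⁻¹ = a s (a s⁻¹ g * l * (a s⁻¹ g)⁻¹)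
  rw [map_mul (a s), map_mul (a s), map_inv (a s) (a s⁻¹ g), ← MulAut.mul_apply, ← map_mul a, mul_inv_cancel, map_one a,
    MulAut.one_apply]

theorem inv_iff_tw {φ : L → ℂ} : Inv a L φ ↔ ∀ s, tw a L hS.stL s φ = φ := by
  rw [inv_iff hS.stL]
  exact ⟨fun h s => funext (h s), fun h s x => congrFun (h s) x⟩

/-- Fixed points in the orbits of the section. -/
theorem orbit_facts {θ : L → ℂ} (hθ : Cfsg.IsIrrCharacter L θ) :
    ((∀ s, ∃ k ∈ K, tw a L hS.stL s θ = Char.conjG θ k) →
      ∃ k ∈ K, Inv a L (Char.conjG θ k)) ∧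
    (Inv a L θ → ∀ k ∈ K, Inv a L (Char.conjG θ k) → Char.conjG θ k = θ) := by
  set N := L.subgroupOf K
  letI : CommGroup (K ⧸ N) :=
    { (inferInstance : Group (K ⧸ N)) with
      mul_comm := fun x y => by
        induction x using QuotientGroup.induction_on with
        | H x =>
        induction y using QuotientGroup.induction_on with
        | H y =>
        rw [← commutatorElement_eq_one_iff_mul_comm, ← QuotientGroup.mk'_apply,
          ← QuotientGroup.mk'_apply, ← map_commutatorElement, QuotientGroup.mk'_apply,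
          QuotientGroup.eq_one_iff, Subgroup.mem_subgroupOf]
        simpa [commutatorElement_def] using hS.hab x x.2 y y.2 }
  let P : K →* Equiv.Perm (Cfsg.IrrCharacter L) := MonoidHom.mk'
    (fun k =>
      { toFun := fun η => ⟨Char.conjG (η : L → ℂ) (k : G)⁻¹, Char.IsIrrCharacter.conjG η.2 _⟩
        invFun := fun η => ⟨Char.conjG (η : L → ℂ) (k : G), Char.IsIrrCharacter.conjG η.2 _⟩
        left_inv := fun η => Subtype.ext (by
          simp only [Char.conjG_mul, inv_mul_cancel, Char.conjG_one])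
        right_inv := fun η => Subtype.ext (by
          simp only [Char.conjG_mul, mul_inv_cancel, Char.conjG_one]) })
    fun k k' => Equiv.ext fun η => Subtype.ext (by
      show Char.conjG (η : L → ℂ) ((k * k' : K) : G)⁻¹
        = Char.conjG (Char.conjG (η : L → ℂ) (k' : G)⁻¹) (k : G)⁻¹
      rw [Char.conjG_mul, Subgroup.coe_mul, mul_inv_rev])
  have hP : N ≤ P.ker := fun k hk => MonoidHom.mem_ker.2 (Equiv.ext fun η => Subtype.ext (by
    show Char.conjG (η : L → ℂ) (k : G)⁻¹ = _
    exact Char.conjG_of_mem (Char.IsIrrCharacter.isClassFunction η.2)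
      (L.inv_mem (Subgroup.mem_subgroupOf.1 hk))))
  letI : MulAction (K ⧸ N) (Cfsg.IrrCharacter L) :=
    MulAction.compHom _ (QuotientGroup.lift N P hP)
  have hact : ∀ (k : K) (η : Cfsg.IrrCharacter L),
      (((k : K ⧸ N) • η : Cfsg.IrrCharacter L) : L → ℂ) = Char.conjG (η : L → ℂ) (k : G)⁻¹ :=
    fun k η => rfl
  letI : MulAction S (Cfsg.IrrCharacter L) :=
    { smul := fun s η => ⟨tw a L hS.stL s⁻¹ (η : L → ℂ), Char.IsIrrCharacter.comp_equiv η.2 _⟩
      one_smul := fun η => Subtype.ext (funext fun k => by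
        show (η : L → ℂ) (restrictAut a L hS.stL 1⁻¹ k) = _
        simp)
      mul_smul := fun s t η => Subtype.ext (funext fun k => by
        show (η : L → ℂ) (restrictAut a L hS.stL (s * t)⁻¹ k)
          = (η : L → ℂ) (restrictAut a L hS.stL t⁻¹ (restrictAut a L hS.stL s⁻¹ k))
        rw [mul_inv_rev, map_mul, MulAut.mul_apply]) }
  set aK := restrictAut a K hS.stK
  have haN : ∀ s, N ≤ N.comap (aK s).toMonoidHom := fun s k hk => by
    rw [Subgroup.mem_subgroupOf] at hk
    exact Subgroup.mem_subgroupOf.2 (hS.stL s _ hk)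
  let q : S → (K ⧸ N →* K ⧸ N) := fun s => QuotientGroup.map N N (aK s).toMonoidHom (haN s)
  have hq : ∀ s (k : K), q s (k : K ⧸ N) = ((aK s k : K) : K ⧸ N) := fun s k => rfl
  have hqm : ∀ s t x, q (s * t) x = q s (q t x) := fun s t x => by
    induction x using QuotientGroup.induction_on with
    | H k => rw [hq, hq, hq, map_mul, MulAut.mul_apply]
  have hq1 : ∀ x, q 1 x = x := fun x => by
    induction x using QuotientGroup.induction_on with
    | H k => rw [hq, map_one, MulAut.one_apply]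
  let φ : S →* MulAut (K ⧸ N) := MonoidHom.mk'
    (fun s =>
      { toFun := q s
        invFun := q s⁻¹
        left_inv := fun x => by rw [← hqm, inv_mul_cancel, hq1]
        right_inv := fun x => by rw [← hqm, mul_inv_cancel, hq1]
        map_mul' := map_mul (q s) })
    fun s t => MulEquiv.ext fun x => hqm s t x
  have hcomp : ∀ (s : S) (d : K ⧸ N) (η : Cfsg.IrrCharacter L),
      s • d • η = φ s d • s • η := by
    intro s d η
    induction d using QuotientGroup.induction_on with
    | H k =>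
    refine Subtype.ext ?_
    show tw a L hS.stL s⁻¹ (((k : K ⧸ N) • η : Cfsg.IrrCharacter L) : L → ℂ) = _
    rw [show φ s (k : K ⧸ N) = ((aK s k : K) : K ⧸ N) from rfl, hact, hact, tw_conjG hS]
    rw [inv_inv, map_inv, restrictAut_val]
    rfl
  have hexp : ∀ d : K ⧸ N, d ^ Nat.card K = 1 := fun d => by
    induction d using QuotientGroup.induction_on with
    | H k => rw [← QuotientGroup.mk_pow, pow_card_eq_one', QuotientGroup.mk_one]
  have hfpf : ∀ d : K ⧸ N, (∀ s, φ s d = d) → d = 1 := fun d => by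
    induction d using QuotientGroup.induction_on with
    | H k =>
    intro h
    rw [QuotientGroup.eq_one_iff, Subgroup.mem_subgroupOf]
    refine hS.hfix k k.2 fun s => ?_
    have h1 : ((aK s k : K) : K ⧸ N) = (k : K ⧸ N) := h s
    rw [← mul_inv_eq_one, ← QuotientGroup.mk_inv, ← QuotientGroup.mk_mul,
      QuotientGroup.eq_one_iff, Subgroup.mem_subgroupOf] at h1
    exact h1
  have hfixed : ∀ η : Cfsg.IrrCharacter L, Inv a L (η : L → ℂ) ↔ ∀ s : S, s • η = η := by
    intro η
    rw [inv_iff_tw hS]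
    refine ⟨fun h s => Subtype.ext (h s⁻¹), fun h s => ?_⟩
    have := congrArg Subtype.val (h s⁻¹)
    change tw a L hS.stL s⁻¹⁻¹ (η : L → ℂ) = _ at this
    rwa [inv_inv] at this
  refine ⟨fun h => ?_, fun hθS k hk hk' => ?_⟩
  · obtain ⟨d, hd⟩ := exists_fixed φ hcomp hexp hS.cardK (⟨θ, hθ⟩ : Cfsg.IrrCharacter L)
      fun s => by
        obtain ⟨k, hk, e⟩ := h s⁻¹
        exact ⟨((⟨k, hk⟩⁻¹ : K) : K ⧸ N), Subtype.ext (by
          rw [hact, InvMemClass.coe_inv, inv_inv]; exact e)⟩
    induction d using QuotientGroup.induction_on with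
    | H k =>
    refine ⟨(k : G)⁻¹, K.inv_mem k.2, ?_⟩
    have h1 := (hfixed _).2 hd
    rwa [hact] at h1
  · set k' : K := (⟨k, hk⟩ : K)⁻¹
    have h1 := fixed_unique φ hcomp hexp hS.cardK hfpf ((hfixed ⟨θ, hθ⟩).1 hθS)
      (d := (k' : K ⧸ N)) ((hfixed _).1 (by
        rw [hact]; simpa [k'] using hk'))
    have h2 := congrArg Subtype.val h1
    rw [hact] at h2
    simpa [k'] using h2

/-- An invariant character has a fixed constituent on `L`. -/
theorem exists_fixed_constituent {χ : G → ℂ} (hχ : Cfsg.IsIrrCharacter G χ)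
    (hχS : ∀ s g, χ (a s g) = χ g) : ∃ θ : L → ℂ, Cfsg.IsIrrCharacter L θ ∧ Inv a L θ ∧
      Cfsg.classInner (fun l : L => χ l) θ ≠ 0 := by
  obtain ⟨θ₀, hθ₀, h0⟩ := Char.IsCharacter.exists_constituent
    (Char.IsCharacter.restrict (Char.IsIrrCharacter.isCharacter hχ) L) fun h => by
      have := congrFun h 1
      simp only [OneMemClass.coe_one, Pi.zero_apply] at this
      exact Char.IsIrrCharacter.apply_one_ne_zero hχ this
  have horb : ∀ s, ∃ k ∈ K, tw a L hS.stL s θ₀ = Char.conjG θ₀ k := by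
    intro s
    have hs0 : Cfsg.classInner (fun l : L => χ l) (tw a L hS.stL s θ₀) ≠ 0 := by
      convert h0 using 1
      conv_lhs => rw [show (fun l : L => χ l) = (fun l : L => χ l) ∘ restrictAut a L hS.stL s from
        funext fun l => (hχS s l).symm]
      exact Char.classInner_reindex (restrictAut a L hS.stL s) _ _
    obtain ⟨g, hg'⟩ := CharDeep.Clifford.exists_conj_of_constituent (N := L) hχ hθ₀
      (Char.IsIrrCharacter.comp_equiv hθ₀ (restrictAut a L hS.stL s)) h0 hs0
    have hg : tw a L hS.stL s θ₀ = Char.conjG θ₀ g := hg'.trans (funext fun n => by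
      rw [CharDeep.Clifford.conjFun_apply, Char.conjG_apply])
    obtain ⟨k, hk, c, hc, rfl⟩ := hS.hgen g
    have hit : ∀ i : ℕ, ∃ j ∈ K, (tw a L hS.stL s)^[i] θ₀ = Char.conjG θ₀ (j * c ^ i) := by
      intro i
      induction i with
      | zero => exact ⟨1, one_mem K, by simp [Char.conjG_one]⟩
      | succ i ih =>
        obtain ⟨j, hj, e⟩ := ih
        refine ⟨k * (c * a s⁻¹ j * c⁻¹), K.mul_mem hk (hKn.conj_mem _ (hS.stK _ j hj) c), ?_⟩
        rw [Function.iterate_succ_apply', e, tw_conjG hS, hg, Char.conjG_mul, map_mul, map_pow,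
          hS.fixC _ c hc]
        congr 1
        rw [pow_succ']; group
    obtain ⟨j, hj, e⟩ := hit (Nat.card S)
    have hfix : (tw a L hS.stL s)^[Nat.card S] θ₀ = θ₀ := by
      have hi : ∀ (i : ℕ) (φ : L → ℂ), (tw a L hS.stL s)^[i] φ = tw a L hS.stL (s ^ i) φ := by
        intro i
        induction i with
        | zero => intro φ; funext l; simp [tw]
        | succ i ih =>
          intro φ
          rw [Function.iterate_succ_apply, ih]
          funext l
          show φ (restrictAut a L hS.stL s (restrictAut a L hS.stL (s ^ i) l)) = _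
          rw [← MulAut.mul_apply, ← map_mul, ← pow_succ']
          rfl
      rw [hi, pow_card_eq_one']
      funext l; simp [tw]
    set M := K ⊔ Char.stab θ₀ with hM
    have hcM : c ∈ M := by
      have h1 : c ^ Nat.card S ∈ M := by
        have h2 : j * c ^ Nat.card S ∈ M := le_sup_right (α := Subgroup G)
          (Char.mem_stab.2 (e.symm.trans hfix))
        simpa using mul_mem (M.inv_mem (le_sup_left (α := Subgroup G) hj)) h2
      obtain ⟨r, hr⟩ := exists_inv_mod hS.hcop
      rw [← pow_one c, pow_congr (pow_card_eq_one' (x := c)) hr.symm, pow_mul]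
      exact pow_mem h1 r
    rw [← SetLike.mem_coe, hM, Subgroup.normal_mul, Set.mem_mul] at hcM
    obtain ⟨k', hk', t, ht, rfl⟩ := hcM
    refine ⟨t⁻¹ * (k * k') * t, by simpa using hKn.conj_mem _ (K.mul_mem hk hk') t⁻¹, ?_⟩
    rw [hg, show k * (k' * t) = t * (t⁻¹ * (k * k') * t) by group, ← Char.conjG_mul,
      Char.mem_stab.1 ht]
  obtain ⟨k, -, hk⟩ := (orbit_facts hS hθ₀).1 horb
  exact ⟨_, Char.IsIrrCharacter.conjG hθ₀ k, hk, by
    rw [show Char.conjG θ₀ k = CharDeep.Clifford.conjFun L k θ₀ from funext fun n => by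
      rw [CharDeep.Clifford.conjFun_apply, Char.conjG_apply],
      CharDeep.Clifford.classInner_restrict_conjFun L k (Char.IsIrrCharacter.isClassFunction hχ)]
    exact h0⟩

/-- Two fixed constituents are conjugate under `C`. -/
theorem fixed_constituent_conj {χ : G → ℂ} (hχ : Cfsg.IsIrrCharacter G χ) {θ θ' : L → ℂ}
    (hθ : Cfsg.IsIrrCharacter L θ) (hθ' : Cfsg.IsIrrCharacter L θ') (hI : Inv a L θ)
    (hI' : Inv a L θ') (h : Cfsg.classInner (fun l : L => χ l) θ ≠ 0)
    (h' : Cfsg.classInner (fun l : L => χ l) θ' ≠ 0) : ∃ c ∈ C, θ' = Char.conjG θ c := by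
  obtain ⟨g, hg'⟩ := CharDeep.Clifford.exists_conj_of_constituent (N := L) hχ hθ hθ' h h'
  have hg : θ' = Char.conjG θ g := hg'.trans (funext fun n => by
    rw [CharDeep.Clifford.conjFun_apply, Char.conjG_apply])
  obtain ⟨k, hk, c, hc, rfl⟩ := hS.hgen g
  rw [show k * c = c * (c⁻¹ * k * c) by group, ← Char.conjG_mul] at hg
  have hIc : Inv a L (Char.conjG θ c) := (inv_iff_tw hS).2 fun s => by
    rw [tw_conjG hS, (inv_iff_tw hS).1 hI, hS.fixC _ c hc]
  refine ⟨c, hc, hg.trans ?_⟩
  exact (orbit_facts hS (Char.IsIrrCharacter.conjG hθ c)).2 hIc _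
    (by simpa using hKn.conj_mem k hk c⁻¹) (hg ▸ hI')

/-- The stabiliser of a fixed character splits. -/
theorem stab_factor {θ : L → ℂ} (hθ : Cfsg.IsIrrCharacter L θ) (hI : Inv a L θ) {g : G}
    (hg : g ∈ Char.stab θ) :
    ∃ k ∈ K, k ∈ Char.stab θ ∧ ∃ c ∈ C, c ∈ Char.stab θ ∧ g = k * c := by
  obtain ⟨k, hk, c, hc, rfl⟩ := hS.hgen g
  have h1 : Char.conjG θ k = Char.conjG θ c⁻¹ := by
    have h2 := congrArg (fun φ => Char.conjG φ c⁻¹) (Char.mem_stab.1 hg)
    simpa only [Char.conjG_mul, mul_inv_cancel_right] using h2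
  have h3 : Inv a L (Char.conjG θ c⁻¹) := (inv_iff_tw hS).2 fun s => by
    rw [tw_conjG hS, (inv_iff_tw hS).1 hI, hS.fixC _ c⁻¹ (C.inv_mem hc)]
  have h4 : k ∈ Char.stab θ := Char.mem_stab.2 ((orbit_facts hS hθ).2 hI k hk (h1 ▸ h3))
  exact ⟨k, hk, h4, c, hc, by simpa using mul_mem (inv_mem h4) hg, rfl⟩

end CfsgLib.DegreeTools.OddSection
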