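import Cfsg.Agent.Lib.DegreeTools.OddSection.Core
import Cfsg.Agent.Lib.Char.CliffordAbelian

/-!
# The parity correspondence over an invariant character of the bottom of the section
-/

set_option autoImplicit false
set_option linter.style.haveILetI false
set_option linter.unusedSectionVars false

open scoped Classical ComplexConjugate commutatorElement

namespace CfsgLib.DegreeTools.OddSection

open CfsgLib CfsgLib.CharDeep CfsgLib.CharDeep.Implementers

/-- An odd coprime section. -/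
structure Sect {G : Type*} [Group G] {S : Type*} [Group S] (a : S →* MulAut G)
    (K L C H : Subgroup G) : Prop where
  hodd : Odd (Nat.card G)
  hcop : (Nat.card S).Coprime (Nat.card G)
  le : L ≤ K
  fixC : ∀ s, ∀ c ∈ C, a s c = c
  normK : K.Normal
  normL : L.Normal
  stK : ∀ s, ∀ k ∈ K, a s k ∈ K
  stL : ∀ s, ∀ l ∈ L, a s l ∈ L
  hab : ∀ x ∈ K, ∀ y ∈ K, x * y * x⁻¹ * y⁻¹ ∈ L
  hfix : ∀ k ∈ K, (∀ s, a s k * k⁻¹ ∈ L) → k ∈ L
  hgen : ∀ g : G, ∃ k ∈ K, ∃ c ∈ C, g = k * c
  memH : ∀ x, x ∈ H ↔ ∃ l ∈ L, ∃ c ∈ C, x = l * c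

variable {G : Type*} [Group G] {S : Type*} [Group S]

/-- Invariance of a function on a subgroup under operators. -/
def Inv (a : S →* MulAut G) (M : Subgroup G) (φ : M → ℂ) : Prop :=
  ∀ s (x y : M), (y : G) = a s x → φ y = φ x

/-- Operators restricted to a stable subgroup. -/
def restrictAut (a : S →* MulAut G) (M : Subgroup G) (hM : ∀ s, ∀ x ∈ M, a s x ∈ M) :
    S →* MulAut M :=
  MonoidHom.mk'
    (fun s =>
      { toFun := fun x => ⟨a s x, hM s x x.2⟩
        invFun := fun x => ⟨a s⁻¹ x, hM s⁻¹ x x.2⟩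
        left_inv := fun x => Subtype.ext (by
          show a s⁻¹ (a s (x : G)) = x
          rw [← MulAut.mul_apply, ← map_mul, inv_mul_cancel, map_one, MulAut.one_apply])
        right_inv := fun x => Subtype.ext (by
          show a s (a s⁻¹ (x : G)) = x
          rw [← MulAut.mul_apply, ← map_mul, mul_inv_cancel, map_one, MulAut.one_apply])
        map_mul' := fun x y => Subtype.ext (by simp) })
    fun s t => MulEquiv.ext fun x => Subtype.ext (by simp [map_mul])

theorem restrictAut_val (a : S →* MulAut G) (M : Subgroup G) (hM : ∀ s, ∀ x ∈ M, a s x ∈ M)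
    (s : S) (x : M) : ((restrictAut a M hM s x : M) : G) = a s x := rfl

theorem inv_iff {a : S →* MulAut G} {M : Subgroup G} (hM : ∀ s, ∀ x ∈ M, a s x ∈ M)
    {φ : M → ℂ} : Inv a M φ ↔ ∀ s x, φ (restrictAut a M hM s x) = φ x :=
  ⟨fun h s x => h s x _ rfl, fun h s x y hxy => by
    rw [show y = restrictAut a M hM s x from Subtype.ext hxy, h]⟩

variable [Fintype G] [Finite S] {a : S →* MulAut G} {K L C H : Subgroup G} [hKn : K.Normal]
  [hLn : L.Normal] [Fintype K] [Fintype L] [Fintype H]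
  (hS : Sect a K L C H)
include hS

theorem Sect.cardK : (Nat.card S).Coprime (Nat.card K) :=
  hS.hcop.coprime_dvd_right (Subgroup.card_subgroup_dvd_card K)

theorem Sect.leH : L ≤ H := fun l hl =>
  (hS.memH l).2 ⟨l, hl, 1, one_mem C, (mul_one l).symm⟩

theorem Sect.leC : C ≤ H := fun c hc =>
  (hS.memH c).2 ⟨1, one_mem L, c, hc, (one_mul c).symm⟩

theorem Sect.inf_le (x : G) (hxK : x ∈ K) (hxH : x ∈ H) : x ∈ L := by
  obtain ⟨l, hl, c, hc, rfl⟩ := (hS.memH x).1 hxH
  refine L.mul_mem hl ?_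
  have hcK : c ∈ K := by simpa using K.mul_mem (K.inv_mem (hS.le hl)) hxK
  exact hS.hfix c hcK fun s => by rw [hS.fixC s c hc, mul_inv_cancel]; exact one_mem L

theorem Sect.factor (g : G) : ∃ h ∈ H, ∃ k ∈ K, g = h * k := by
  obtain ⟨k, hk, c, hc, rfl⟩ := hS.hgen g
  exact ⟨c, hS.leC hc, c⁻¹ * k * c, by simpa using hKn.conj_mem k hk c⁻¹,
    by simp [← mul_assoc]⟩

variable {θ : L → ℂ} (hθ : Cfsg.IsIrrCharacter L θ) (hθG : ∀ g : G, Char.conjG θ g = θ)
  (hθS : Inv a L θ)

omit hS in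
/-- The character on the subgroup of `K`. -/
noncomputable def onK (hle : L ≤ K) (θ : L → ℂ) : L.subgroupOf K → ℂ :=
  θ ∘ Subgroup.subgroupOfEquivOfLe hle

include hθ hθG hθS in
/-- The invariant character of `K` over an invariant character. -/
theorem exists_eta : ∃ η : Cfsg.IrrCharacter K, Inv a K (η : K → ℂ) ∧
    (∀ g : G, Char.conjG (η : K → ℂ) g = η) ∧
    (∃ e : ℕ, e ≠ 0 ∧ ∀ l : L.subgroupOf K, (η : K → ℂ) l = (e : ℂ) * onK hS.le θ l) ∧
    ∀ η' : Cfsg.IrrCharacter K, Inv a K (η' : K → ℂ) →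
      Cfsg.classInner (fun l : L.subgroupOf K => (η' : K → ℂ) l) (onK hS.le θ) ≠ 0 → η' = η := by
  set N := L.subgroupOf K
  set θ' := onK hS.le θ with hθ'def
  have hθ' : Cfsg.IsIrrCharacter N θ' :=
    Char.IsIrrCharacter.comp_equiv hθ (Subgroup.subgroupOfEquivOfLe hS.le)
  have hinvN : ∀ (k : K) (l : N), θ' ⟨k * l * k⁻¹, (inferInstance : N.Normal).conj_mem (l : K) l.2 k⟩
      = θ' l := fun k l => by
    have := congrFun (hθG (k : G)) (Subgroup.subgroupOfEquivOfLe hS.le l)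
    rw [Char.conjG_apply] at this
    exact this
  have hres : ∀ η : Cfsg.IrrCharacter K,
      Cfsg.classInner (fun l : N => (η : K → ℂ) l) θ' ≠ 0 →
        ∃ e : ℕ, e ≠ 0 ∧ ∀ l : N, (η : K → ℂ) l = (e : ℂ) * θ' l := fun η hη => by
    obtain ⟨e, he, -, h⟩ := CharDeep.Clifford.restrict_eq_smul (N := N) η.2 hθ' hη hinvN
    exact ⟨e, he, fun l => congrFun h l⟩
  have habK : ∀ x y : K, ⁅x, y⁆ ∈ N := fun x y => by
    rw [Subgroup.mem_subgroupOf]
    simpa [commutatorElement_def] using hS.hab x x.2 y y.2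
  let D : Subgroup (K →* ℂˣ) :=
    { carrier := {d | ∀ l ∈ N, d l = 1}
      one_mem' := fun _ _ => rfl
      mul_mem' := fun ha hb l hl => by rw [MonoidHom.mul_apply, ha l hl, hb l hl, one_mul]
      inv_mem' := fun ha l hl => by rw [MonoidHom.inv_apply, ha l hl, inv_one] }
  letI : MulAction D (Cfsg.IrrCharacter K) :=
    { smul := fun d η => ⟨(η : K → ℂ) * fun k => (((d : K →* ℂˣ) k : ℂˣ) : ℂ),
        Char.IsIrrCharacter.mul_hom η.2 _⟩
      one_smul := fun η => Subtype.ext (funext fun k => by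
        show (η : K → ℂ) k * _ = _
        simp)
      mul_smul := fun d d' η => Subtype.ext (funext fun k => by
        show (η : K → ℂ) k * _ = (η : K → ℂ) k * _ * _
        simp; ring) }
  set aK := restrictAut a K hS.stK
  letI : MulAction S (Cfsg.IrrCharacter K) :=
    { smul := fun s η => ⟨(η : K → ℂ) ∘ aK s⁻¹, Char.IsIrrCharacter.comp_equiv η.2 _⟩
      one_smul := fun η => Subtype.ext (funext fun k => by
        show (η : K → ℂ) (aK 1⁻¹ k) = _
        simp)
      mul_smul := fun s t η => Subtype.ext (funext fun k => by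
        show (η : K → ℂ) (aK (s * t)⁻¹ k) = (η : K → ℂ) (aK t⁻¹ (aK s⁻¹ k))
        rw [mul_inv_rev, map_mul, MulAut.mul_apply]) }
  have haN : ∀ s, ∀ l ∈ N, aK s l ∈ N := fun s l hl => by
    rw [Subgroup.mem_subgroupOf] at hl ⊢
    exact hS.stL s _ hl
  let φ : S →* MulAut D := MonoidHom.mk'
    (fun s =>
      { toFun := fun d => ⟨(d : K →* ℂˣ).comp (aK s⁻¹).toMonoidHom, fun l hl => d.2 _ (haN _ l hl)⟩
        invFun := fun d => ⟨(d : K →* ℂˣ).comp (aK s).toMonoidHom, fun l hl => d.2 _ (haN _ l hl)⟩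
        left_inv := fun d => Subtype.ext (MonoidHom.ext fun k => by
          show (d : K →* ℂˣ) (aK s⁻¹ (aK s k)) = _
          rw [← MulAut.mul_apply, ← map_mul, inv_mul_cancel, map_one, MulAut.one_apply])
        right_inv := fun d => Subtype.ext (MonoidHom.ext fun k => by
          show (d : K →* ℂˣ) (aK s (aK s⁻¹ k)) = _
          rw [← MulAut.mul_apply, ← map_mul, mul_inv_cancel, map_one, MulAut.one_apply])
        map_mul' := fun d d' => rfl })
    fun s t => MulEquiv.ext fun d => Subtype.ext (MonoidHom.ext fun k => by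
      show (d : K →* ℂˣ) (aK (s * t)⁻¹ k) = (d : K →* ℂˣ) (aK t⁻¹ (aK s⁻¹ k))
      rw [mul_inv_rev, map_mul, MulAut.mul_apply])
  have hcomp : ∀ (s : S) (d : D) (η : Cfsg.IrrCharacter K), s • d • η = φ s d • s • η :=
    fun s d η => rfl
  have hexp : ∀ d : D, d ^ Nat.card K = 1 := fun d => Subtype.ext (pow_card_hom (d : K →* ℂˣ))
  have hfpf : ∀ d : D, (∀ s, φ s d = d) → d = 1 := fun d hd => Subtype.ext
    (hom_eq_one N habK aK haN (fun k hk => by
      rw [Subgroup.mem_subgroupOf]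
      refine hS.hfix k k.2 fun s => ?_
      have := Subgroup.mem_subgroupOf.1 (hk s)
      simpa [aK, restrictAut_val] using this) hS.cardK d.2 fun s k => by
      have := DFunLike.congr_fun (congrArg Subtype.val (hd s⁻¹)) k
      simpa [φ] using this)
  have horbit : ∀ η η' : Cfsg.IrrCharacter K,
      Cfsg.classInner (fun l : N => (η : K → ℂ) l) θ' ≠ 0 →
      Cfsg.classInner (fun l : N => (η' : K → ℂ) l) θ' ≠ 0 → ∃ d : D, η' = d • η := by
    intro η η' hη hη'
    obtain ⟨e, he, heη⟩ := hres η hη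
    obtain ⟨e', he', heη'⟩ := hres η' hη'
    haveI := finite_hom (K := K)
    haveI : Fintype D := Fintype.ofFinite D
    by_contra hne
    push Not at hne
    have hzero : ∑ d : D, Cfsg.classInner (η' : K → ℂ) ((d • η : Cfsg.IrrCharacter K) : K → ℂ)
        = 0 := Finset.sum_eq_zero fun d _ => Char.classInner_irr_ne η'.2 (d • η).2
          fun h => hne d (Subtype.ext h)
    have hsum : ∀ k : K, ∑ d : D, conj (((d : K →* ℂˣ) k : ℂˣ) : ℂ)
        = if k ∈ N then (Fintype.card D : ℂ) else 0 := by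
      intro k
      split_ifs with hk
      · rw [← Finset.card_univ, Finset.card_eq_sum_ones, Nat.cast_sum, Nat.cast_one]
        exact Finset.sum_congr rfl fun d _ => by rw [d.2 k hk, Units.val_one, map_one]
      · obtain ⟨d₀, hd₀, hne₀⟩ := exists_hom_ne_one N habK hk
        set x := ∑ d : D, conj (((d : K →* ℂˣ) k : ℂˣ) : ℂ) with hx
        have he2 : x = conj ((d₀ k : ℂˣ) : ℂ) * x := by
          rw [hx, Finset.mul_sum]
          refine (Fintype.sum_equiv (Equiv.mulLeft (⟨d₀, hd₀⟩ : D)) _ _ fun d => ?_).symm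
          simp [map_mul]
        by_contra h0
        have h3 : conj ((d₀ k : ℂˣ) : ℂ) = 1 := mul_right_cancel₀ h0 (by rw [← he2, one_mul])
        rw [← map_one (starRingEnd ℂ), (RingHom.injective _).eq_iff, Units.val_eq_one] at h3
        exact hne₀ h3
    have hval : ∑ d : D, Cfsg.classInner (η' : K → ℂ) ((d • η : Cfsg.IrrCharacter K) : K → ℂ)
        = (Nat.card K : ℂ)⁻¹ * ((Fintype.card D : ℂ) * e' * e *
            ((Nat.card N : ℂ) * Cfsg.classInner θ' θ')) := by
      simp only [Cfsg.classInner]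
      rw [← Finset.mul_sum, Finset.sum_comm]
      congr 1
      calc ∑ k : K, ∑ d : D, (η' : K → ℂ) k * conj (((d • η : Cfsg.IrrCharacter K) : K → ℂ) k)
          = ∑ k : K, if k ∈ N then (η' : K → ℂ) k * conj ((η : K → ℂ) k) * (Fintype.card D : ℂ)
              else 0 := by
            refine Finset.sum_congr rfl fun k _ => ?_
            show ∑ d : D, (η' : K → ℂ) k * conj ((η : K → ℂ) k * _) = _
            simp only [map_mul, ← mul_assoc]
            rw [← Finset.mul_sum, hsum]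
            split_ifs <;> simp
        _ = ∑ l : N, (η' : K → ℂ) l * conj ((η : K → ℂ) l) * (Fintype.card D : ℂ) := by
            rw [← Finset.sum_filter]
            exact Finset.sum_subtype _ (fun k => by simp) _
        _ = (Fintype.card D : ℂ) * e' * e * ((Nat.card N : ℂ) * ((Nat.card N : ℂ)⁻¹ *
              ∑ l : N, θ' l * conj (θ' l))) := by
            rw [mul_inv_cancel_left₀ Char.card_ne_zero, Finset.mul_sum]
            refine Finset.sum_congr rfl fun l _ => ?_
            rw [heη, heη', map_mul, Complex.conj_natCast]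
            ring
    rw [hzero, Char.classInner_irr_self hθ', eq_comm] at hval
    simp [Char.card_ne_zero, he, he', Nat.card_pos.ne'] at hval
  -- a first character
  obtain ⟨η₀, hη₀, h0⟩ := Char.IsCharacter.exists_constituent
    (Char.IsCharacter.indFun N (Char.IsIrrCharacter.isCharacter hθ')) fun h => by
      have h1 := congrFun h 1
      rw [Char.indFun_one, Pi.zero_apply] at h1
      exact mul_ne_zero (Nat.cast_ne_zero.mpr N.index_ne_zero_of_finite)
        (Char.IsIrrCharacter.apply_one_ne_zero hθ') h1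
  have hover : Cfsg.classInner (fun l : N => η₀ l) θ' ≠ 0 := by
    rw [Char.classInner_indFun N θ' (Char.IsIrrCharacter.isClassFunction hη₀),
      Char.IsCharacter.classInner_comm (Char.IsIrrCharacter.isCharacter hθ')
        (Char.IsCharacter.restrict (Char.IsIrrCharacter.isCharacter hη₀) N)] at h0
    exact h0
  have hSover : ∀ (s : S) (η : Cfsg.IrrCharacter K),
      Cfsg.classInner (fun l : N => (η : K → ℂ) l) θ' ≠ 0 →
      Cfsg.classInner (fun l : N => ((s • η : Cfsg.IrrCharacter K) : K → ℂ) l) θ' ≠ 0 := by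
    intro s η hη
    obtain ⟨e, he, heη⟩ := hres η hη
    have : (fun l : N => ((s • η : Cfsg.IrrCharacter K) : K → ℂ) l) = (e : ℂ) • θ' := by
      funext l
      show (η : K → ℂ) (aK s⁻¹ l) = _
      rw [show aK s⁻¹ (l : K) = ((⟨aK s⁻¹ l, haN _ _ l.2⟩ : N) : K) from rfl, heη]
      rw [Pi.smul_apply, smul_eq_mul]
      congr 1
      exact hθS s⁻¹ _ _ rfl
    rw [this, Char.classInner_smul_left, Char.classInner_irr_self hθ', mul_one]
    exact Nat.cast_ne_zero.2 he
  obtain ⟨d, hd⟩ := exists_fixed φ hcomp hexp hS.cardK (⟨η₀, hη₀⟩ : Cfsg.IrrCharacter K)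
    fun s => horbit _ _ hover (hSover s _ hover)
  set η : Cfsg.IrrCharacter K := d • ⟨η₀, hη₀⟩
  have hηover : Cfsg.classInner (fun l : N => (η : K → ℂ) l) θ' ≠ 0 := by
    convert hover using 3 with l
    show η₀ l * ((((d : K →* ℂˣ) (l : K)) : ℂˣ) : ℂ) = η₀ l
    rw [d.2 (l : K) l.2, Units.val_one, mul_one]
  have hfixed : ∀ η' : Cfsg.IrrCharacter K, Inv a K (η' : K → ℂ) ↔ ∀ s : S, s • η' = η' := by
    intro η'
    rw [inv_iff hS.stK]
    refine ⟨fun h s => Subtype.ext (funext fun k => h s⁻¹ k), fun h s k => ?_⟩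
    have := congrFun (congrArg Subtype.val (h s⁻¹)) k
    change (η' : K → ℂ) (aK s⁻¹⁻¹ k) = _ at this
    rwa [inv_inv] at this
  have huniq : ∀ η' : Cfsg.IrrCharacter K, Inv a K (η' : K → ℂ) →
      Cfsg.classInner (fun l : N => (η' : K → ℂ) l) θ' ≠ 0 → η' = η := by
    intro η' hI hO
    obtain ⟨d', rfl⟩ := horbit η η' hηover hO
    exact fixed_unique φ hcomp hexp hS.cardK hfpf hd ((hfixed _).1 hI)
  refine ⟨η, (hfixed η).2 hd, fun g => ?_, hres η hηover, huniq⟩
  obtain ⟨k, hk, c, hc, rfl⟩ := hS.hgen g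
  rw [← Char.conjG_mul, Char.conjG_of_mem (Char.IsIrrCharacter.isClassFunction η.2) hk]
  refine congrArg Subtype.val (huniq ⟨_, Char.IsIrrCharacter.conjG η.2 c⟩ ?_ ?_)
  · intro s x y hxy
    show (η : K → ℂ) _ = (η : K → ℂ) _
    refine (hfixed η).2 hd s _ _ ?_
    show c * (y : G) * c⁻¹ = a s (c * x * c⁻¹)
    rw [map_mul, map_mul, map_inv, hS.fixC s c hc, hxy]
  · obtain ⟨e, he, heη⟩ := hres η hηover
    have : (fun l : N => Char.conjG (η : K → ℂ) c l) = (e : ℂ) • θ' := by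
      funext l
      rw [Char.conjG_apply]
      have hm : (⟨c * (l : K) * c⁻¹, hKn.conj_mem _ (l : K).2 c⟩ : K) ∈ N := by
        rw [Subgroup.mem_subgroupOf]
        exact hLn.conj_mem _ (Subgroup.mem_subgroupOf.1 l.2) c
      rw [show (⟨c * (l : K) * c⁻¹, hKn.conj_mem _ (l : K).2 c⟩ : K)
        = ((⟨_, hm⟩ : N) : K) from rfl, heη, Pi.smul_apply, smul_eq_mul]
      congr 1
      exact congrFun (hθG c) (Subgroup.subgroupOfEquivOfLe hS.le l)
    show Cfsg.classInner (fun l : N => Char.conjG (η : K → ℂ) c l) θ' ≠ 0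
    rw [this, Char.classInner_smul_left, Char.classInner_irr_self hθ', mul_one]
    exact Nat.cast_ne_zero.2 he

omit [Finite S] [Fintype G] hKn hLn [Fintype K] [Fintype L] [Fintype H] hS in
theorem twines_of_mem {U : Type*} [AddCommGroup U] [Module ℂ U] [FiniteDimensional ℂ U]
    [K.Normal] (σ : Representation ℂ K U) (k : K) :
    Twines σ (MulAut.conjNormal (k : G)) (σ.toHomUnits k) := fun x => by
  rw [MonoidHom.coe_toHomUnits]
  show σ k * σ x = σ _ * σ k
  rw [← map_mul, ← map_mul]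
  exact congrArg σ (Subtype.ext (by simp [mul_assoc]))

include hθ hθG hθS in
/-- The correspondence over an invariant character. -/
theorem invariant_case :
    (∀ χ : Cfsg.IrrCharacter G, (∀ s g, (χ : G → ℂ) (a s g) = (χ : G → ℂ) g) →
      Cfsg.classInner (fun l : L => (χ : G → ℂ) l) θ ≠ 0 →
      ∃ ψ : Cfsg.IrrCharacter H, OddMult H (χ : G → ℂ) (ψ : H → ℂ) ∧
        (∀ ψ' : Cfsg.IrrCharacter H, OddMult H (χ : G → ℂ) (ψ' : H → ℂ) → ψ' = ψ) ∧
        Inv a H (ψ : H → ℂ) ∧
        Cfsg.classInner (fun l : L => (ψ : H → ℂ) ⟨l, hS.leH l.2⟩) θ ≠ 0) ∧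
    (∀ χ χ' : Cfsg.IrrCharacter G, (∀ s g, (χ : G → ℂ) (a s g) = (χ : G → ℂ) g) →
      (∀ s g, (χ' : G → ℂ) (a s g) = (χ' : G → ℂ) g) →
      Cfsg.classInner (fun l : L => (χ : G → ℂ) l) θ ≠ 0 →
      Cfsg.classInner (fun l : L => (χ' : G → ℂ) l) θ ≠ 0 →
      ∀ ψ : Cfsg.IrrCharacter H, OddMult H (χ : G → ℂ) (ψ : H → ℂ) →
        OddMult H (χ' : G → ℂ) (ψ : H → ℂ) → χ = χ') ∧
    (∀ ψ : Cfsg.IrrCharacter H, Inv a H (ψ : H → ℂ) →
      Cfsg.classInner (fun l : L => (ψ : H → ℂ) ⟨l, hS.leH l.2⟩) θ ≠ 0 →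
      ∃ χ : Cfsg.IrrCharacter G, (∀ s g, (χ : G → ℂ) (a s g) = (χ : G → ℂ) g) ∧
        Cfsg.classInner (fun l : L => (χ : G → ℂ) l) θ ≠ 0 ∧
        OddMult H (χ : G → ℂ) (ψ : H → ℂ)) := by
  haveI : Finite S := inferInstance
  set N := L.subgroupOf K with hNdef
  set θ' := onK hS.le θ with hθ'def
  have hθ' : Cfsg.IsIrrCharacter N θ' :=
    Char.IsIrrCharacter.comp_equiv hθ (Subgroup.subgroupOfEquivOfLe hS.le)
  set aK := restrictAut a K hS.stK
  have haN : ∀ s, ∀ l ∈ N, aK s l ∈ N := fun s l hl => by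
    rw [Subgroup.mem_subgroupOf] at hl ⊢
    exact hS.stL s _ hl
  have habK : ∀ x y : K, ⁅x, y⁆ ∈ N := fun x y => by
    rw [Subgroup.mem_subgroupOf]
    simpa [commutatorElement_def] using hS.hab x x.2 y y.2
  have hKodd : Odd (Nat.card K) := hS.hodd.of_dvd_nat (Subgroup.card_subgroup_dvd_card K)
  obtain ⟨η, hηS, hηG, ⟨e, he0, heη⟩, hηu⟩ := exists_eta hS hθ hθG hθS
  -- characters over `θ` lie over `η`
  have hχη : ∀ χ : Cfsg.IrrCharacter G, (∀ s g, (χ : G → ℂ) (a s g) = (χ : G → ℂ) g) →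
      Cfsg.classInner (fun l : L => (χ : G → ℂ) l) θ ≠ 0 →
      Cfsg.classInner (fun k : K => (χ : G → ℂ) k) (η : K → ℂ) ≠ 0 := by
    intro χ hχ hover
    obtain ⟨f, hf0, -, hf⟩ := CharDeep.Clifford.restrict_eq_smul (N := L) χ.2 hθ hover
      (fun g n => congrFun (hθG g) n)
    -- a constituent on `K`
    obtain ⟨η₀, hη₀, h0⟩ := Char.IsCharacter.exists_constituent
      (Char.IsCharacter.restrict (Char.isCharacter_irr χ) K) fun h => by
        have := congrFun h 1
        simp only [OneMemClass.coe_one, Pi.zero_apply] at this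
        exact Char.IsIrrCharacter.apply_one_ne_zero χ.2 this
    -- it lies over `θ`
    have hover0 : ∀ η₁ : K → ℂ, Cfsg.IsIrrCharacter K η₁ →
        Cfsg.classInner (fun k : K => (χ : G → ℂ) k) η₁ ≠ 0 →
        Cfsg.classInner (fun l : N => η₁ l) θ' ≠ 0 := by
      intro η₁ hη₁ h1
      have hr := Char.IsCharacter.restrict (Char.IsIrrCharacter.isCharacter hη₁) N
      obtain ⟨φ, hφ, hφ0⟩ := Char.IsCharacter.exists_constituent hr fun h => by
        have := congrFun h 1
        simp only [OneMemClass.coe_one, Pi.zero_apply] at this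
        exact Char.IsIrrCharacter.apply_one_ne_zero hη₁ this
      have h2 := CharDeep.Clifford.classInner_ne_zero_trans
        (Char.IsCharacter.restrict (Char.isCharacter_irr χ) K) hη₁ h1 N.subtype
        (Char.IsIrrCharacter.isCharacter hφ) (by exact hφ0)
      rw [show ((fun k : K => (χ : G → ℂ) k) ∘ N.subtype) = (f : ℂ) • θ' from funext fun l => by
        exact congrFun hf (Subgroup.subgroupOfEquivOfLe hS.le l),
        Char.classInner_smul_left] at h2
      by_cases hφθ : φ = θ'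
      · rwa [hφθ] at hφ0
      · rw [Char.classInner_irr_ne hθ' hφ (Ne.symm hφθ), mul_zero] at h2
        exact absurd rfl h2
    letI : MulAction C (Cfsg.IrrCharacter K) :=
      { smul := fun c η₁ => ⟨Char.conjG (η₁ : K → ℂ) (c : G)⁻¹, Char.IsIrrCharacter.conjG η₁.2 _⟩
        one_smul := fun η₁ => Subtype.ext (by
          show Char.conjG (η₁ : K → ℂ) ((1 : C) : G)⁻¹ = _
          rw [OneMemClass.coe_one, inv_one, Char.conjG_one])
        mul_smul := fun c c' η₁ => Subtype.ext (by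
          show Char.conjG (η₁ : K → ℂ) ((c * c' : C) : G)⁻¹
            = Char.conjG (Char.conjG (η₁ : K → ℂ) (c' : G)⁻¹) (c : G)⁻¹
          rw [Char.conjG_mul, Subgroup.coe_mul, mul_inv_rev]) }
    have hI : Inv a K η₀ := by
      intro s x y hxy
      let σ : Cfsg.IrrCharacter K → Cfsg.IrrCharacter K := fun η₁ =>
        ⟨(η₁ : K → ℂ) ∘ aK s, Char.IsIrrCharacter.comp_equiv η₁.2 _⟩
      have hσC : ∀ (c : C) (η₁ : Cfsg.IrrCharacter K), σ (c • η₁) = c • σ η₁ := fun c η₁ =>
        Subtype.ext (funext fun k => by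
          show (η₁ : K → ℂ) _ = (η₁ : K → ℂ) _
          refine congrArg (η₁ : K → ℂ) (Subtype.ext ?_)
          show (c : G)⁻¹ * a s (k : G) * (c : G)⁻¹⁻¹ = a s ((c : G)⁻¹ * (k : G) * (c : G)⁻¹⁻¹)
          rw [inv_inv, map_mul, map_mul, map_inv, hS.fixC s c c.2])
      have hn : σ^[Nat.card S] ⟨η₀, hη₀⟩ = ⟨η₀, hη₀⟩ := by
        have hi : ∀ (i : ℕ) (η₁ : Cfsg.IrrCharacter K) (k : K),
            ((σ^[i] η₁ : Cfsg.IrrCharacter K) : K → ℂ) k = (η₁ : K → ℂ) (aK (s ^ i) k) := by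
          intro i
          induction i with
          | zero => intro η₁ k; simp
          | succ i ih =>
            intro η₁ k
            rw [Function.iterate_succ_apply, ih, pow_succ', map_mul, MulAut.mul_apply]
            rfl
        exact Subtype.ext (funext fun k => by rw [hi, pow_card_eq_one', map_one, MulAut.one_apply])
      have hs0 : Cfsg.classInner (fun k : K => (χ : G → ℂ) k) (η₀ ∘ aK s) ≠ 0 := by
        convert h0 using 1
        conv_lhs => rw [show (fun k : K => (χ : G → ℂ) k) = (fun k : K => (χ : G → ℂ) k) ∘ aK s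
          from funext fun k => (hχ s k).symm]
        exact Char.classInner_reindex (aK s) _ _
      obtain ⟨g, hg'⟩ := CharDeep.Clifford.exists_conj_of_constituent (N := K) χ.2 hη₀
        (σ ⟨η₀, hη₀⟩).2 h0 hs0
      have hg : (σ ⟨η₀, hη₀⟩ : K → ℂ) = Char.conjG η₀ g := hg'.trans (funext fun n => by
        rw [CharDeep.Clifford.conjFun_apply, Char.conjG_apply])
      obtain ⟨k, hk, c, hc, rfl⟩ := hS.hgen g
      rw [← Char.conjG_mul, Char.conjG_of_mem (Char.IsIrrCharacter.isClassFunction hη₀) hk] at hg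
      have hcop : (Nat.card S).Coprime (Nat.card C) :=
        hS.hcop.coprime_dvd_right (Subgroup.card_subgroup_dvd_card C)
      have hfx := fixed_of_mem_orbit σ hσC hcop hn (c := (⟨c, hc⟩ : C)⁻¹) (Subtype.ext (by
        show η₀ ∘ aK s = Char.conjG η₀ (((⟨c, hc⟩ : C)⁻¹ : C) : G)⁻¹
        rw [InvMemClass.coe_inv, inv_inv]; exact hg))
      rw [show y = aK s x from Subtype.ext hxy]
      exact congrFun (congrArg Subtype.val hfx) x
    rw [← hηu ⟨η₀, hη₀⟩ hI (hover0 η₀ hη₀ h0)]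
    exact h0
  -- the involution
  obtain ⟨d, σ, hσi, hσchar⟩ := id η.2
  haveI := hσi
  obtain ⟨W, ρ, hρi, hρchar⟩ := id hθ'
  haveI := hρi
  obtain ⟨J, hJ, hJL, hJA⟩ := exists_involution σ N hKodd habK aK haN
    (fun s k => by rw [hσchar]; exact hηS s k _ rfl)
    (fun k hk => by
      rw [Subgroup.mem_subgroupOf]
      refine hS.hfix k k.2 fun s => ?_
      have := Subgroup.mem_subgroupOf.1 (hk s)
      simpa [aK, restrictAut_val] using this)
    hS.cardK ρ (e := e) (fun l => by rw [hσchar, hρchar]; exact heη l)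
  have hJL' : ∀ l : K, (l : G) ∈ L → Commute J (σ l) := fun l hl =>
    hJL l (Subgroup.mem_subgroupOf.2 hl)
  have hNL : Nat.card N = Nat.card L :=
    Nat.card_congr (Subgroup.subgroupOfEquivOfLe hS.le).toEquiv
  have hH : ∀ h ∈ H, ∃ A : (Module.End ℂ (Fin d → ℂ))ˣ,
      Twines σ (MulAut.conjNormal h) A ∧ Commute J (A : Module.End ℂ (Fin d → ℂ)) ∧
        ∑ l : L.subgroupOf K, LinearMap.trace ℂ _ ((A : Module.End ℂ (Fin d → ℂ)) * J * σ (l : K))
          * LinearMap.trace ℂ _ (σ (l : K)⁻¹ * (J *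
            ((A⁻¹ : (Module.End ℂ (Fin d → ℂ))ˣ) : Module.End ℂ (Fin d → ℂ)))) = (Nat.card L : ℂ) := by
    intro h hh
    obtain ⟨l, hl, c, hc, rfl⟩ := (hS.memH h).1 hh
    obtain ⟨A, hA⟩ := exists_unit_of_character_eq σ
      (σ.comp (MulAut.conjNormal (H := K) c).toMonoidHom) (funext fun k => by
        show σ.character (MulAut.conjNormal c k) = σ.character k
        rw [hσchar]
        have h1 := congrFun (hηG c) k
        rw [Char.conjG_apply] at h1
        exact h1)
    have hA' : Twines σ (MulAut.conjNormal c) A := hA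
    obtain ⟨hAJ, havg⟩ := hJA (MulAut.conjNormal c) A (fun s k => Subtype.ext (by
        simp only [aK, restrictAut_val, MulAut.conjNormal_apply]
        rw [map_mul, map_mul, map_inv, hS.fixC s c hc]))
      (fun x hx => by
        rw [Subgroup.mem_subgroupOf] at hx ⊢
        rw [MulAut.conjNormal_apply]
        exact hLn.conj_mem _ hx c) hA'
    have hsum := havg (Nat.card G) hS.hodd (by rw [← map_pow, pow_card_eq_one', map_one])
    set l₀ : K := ⟨l, hS.le hl⟩
    set B := σ.toHomUnits l₀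
    have hBv : (B : Module.End ℂ (Fin d → ℂ)) = σ l₀ := MonoidHom.coe_toHomUnits _ _
    have hBi : ((B⁻¹ : (Module.End ℂ (Fin d → ℂ))ˣ) : Module.End ℂ (Fin d → ℂ)) = σ l₀⁻¹ := by
      rw [← map_inv, MonoidHom.coe_toHomUnits]
    refine ⟨B * A, ?_, ?_, ?_⟩
    · rw [map_mul]
      exact twines_mul (twines_of_mem σ l₀) hA'
    · rw [Units.val_mul, hBv]
      exact (hJL' l₀ hl).mul_right hAJ
    · rw [← hNL, ← hsum]
      refine Fintype.sum_equiv (Equiv.mulRight (⟨l₀, Subgroup.mem_subgroupOf.2 hl⟩ : N)) _ _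
        fun x => ?_
      rw [mul_inv_rev B A, Units.val_mul, Units.val_mul, hBv, hBi]
      simp only [Equiv.coe_mulRight, Subgroup.coe_mul, mul_inv_rev]
      congr 1
      · rw [mul_assoc, mul_assoc, LinearMap.trace_mul_comm, map_mul σ, ← mul_assoc, ← mul_assoc]
      · rw [← mul_assoc J, ← mul_assoc, LinearMap.trace_mul_comm, map_mul σ, ← mul_assoc,
          ← mul_assoc]
  have hrestr : ∀ χ : Cfsg.IrrCharacter G,
      Cfsg.classInner (fun k : K => (χ : G → ℂ) k) (η : K → ℂ) ≠ 0 →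
      ∃ (n : ℕ) (π : Representation ℂ G (Fin n → ℂ)) (m : ℕ), π.IsIrreducible ∧
        π.character = (χ : G → ℂ) ∧ m ≠ 0 ∧
          ∀ k : K, π.character (k : G) = (m : ℂ) * σ.character k := by
    intro χ hχ
    obtain ⟨m, hm0, -, hm⟩ := CharDeep.Clifford.restrict_eq_smul (N := K) χ.2 η.2 hχ
      (fun g n => congrFun (hηG g) n)
    obtain ⟨n, π, hπ, hπc⟩ := id χ.2
    exact ⟨n, π, m, hπ, hπc, hm0, fun k => by rw [hπc, hσchar]; exact congrFun hm k⟩
  have huniq : ∀ χ : Cfsg.IrrCharacter G,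
      Cfsg.classInner (fun k : K => (χ : G → ℂ) k) (η : K → ℂ) ≠ 0 →
      ∃ ψ : Cfsg.IrrCharacter H, OddMult H (χ : G → ℂ) (ψ : H → ℂ) ∧
        ∀ ψ' : Cfsg.IrrCharacter H, OddMult H (χ : G → ℂ) (ψ' : H → ℂ) → ψ' = ψ := by
    intro χ hχ
    obtain ⟨n, π, m, hπ, hπc, -, hm⟩ := hrestr χ hχ
    haveI := hπ
    obtain ⟨z, φ, -, -, hφ⟩ :=
      exists_odd_iff hS.le hS.leH hS.inf_le hS.factor σ π hm J hJ hH hJL'
    rw [hπc] at hφ
    exact ⟨φ, (hφ φ).2 rfl, fun ψ' h => (hφ ψ').1 h⟩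
  have hinj : ∀ χ χ' : Cfsg.IrrCharacter G,
      Cfsg.classInner (fun k : K => (χ : G → ℂ) k) (η : K → ℂ) ≠ 0 →
      Cfsg.classInner (fun k : K => (χ' : G → ℂ) k) (η : K → ℂ) ≠ 0 →
      ∀ ψ : Cfsg.IrrCharacter H, OddMult H (χ : G → ℂ) (ψ : H → ℂ) →
        OddMult H (χ' : G → ℂ) (ψ : H → ℂ) → χ = χ' := by
    intro χ χ' h1 h2 ψ o1 o2
    obtain ⟨n, π, m, hπ, hπc, -, hm⟩ := hrestr χ h1
    obtain ⟨n', π', m', hπ', hπc', -, hm'⟩ := hrestr χ' h2
    haveI := hπ; haveI := hπ'
    obtain ⟨z, φ, hz, hzφ, hφ⟩ :=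
      exists_odd_iff hS.le hS.leH hS.inf_le hS.factor σ π hm J hJ hH hJL'
    obtain ⟨z', φ', hz', hzφ', hφ'⟩ :=
      exists_odd_iff hS.le hS.leH hS.inf_le hS.factor σ π' hm' J hJ hH hJL'
    have hin := signed_inner hS.le hS.leH hS.inf_le hS.factor σ π hm J hJ hH hJL' π' hm'
    have e1 : ψ = φ := (hφ ψ).1 (by rw [hπc]; exact o1)
    have e2 : ψ = φ' := (hφ' ψ).1 (by rw [hπc']; exact o2)
    rw [hzφ, hzφ', ← e1, ← e2, hπc, hπc', Char.classInner_smul_left, Char.classInner_smul_right,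
      Char.classInner_irr_self ψ.2, Char.classInner_irrCharacter] at hin
    by_contra hne
    rw [if_neg hne] at hin
    simp [hz, hz'] at hin
  -- invariance of the partner and of the preimage
  have htw : ∀ (χ : Cfsg.IrrCharacter G), (∀ s g, (χ : G → ℂ) (a s g) = (χ : G → ℂ) g) →
      ∀ (ψ : Cfsg.IrrCharacter H), OddMult H (χ : G → ℂ) (ψ : H → ℂ) →
      (∀ ψ' : Cfsg.IrrCharacter H, OddMult H (χ : G → ℂ) (ψ' : H → ℂ) → ψ' = ψ) →
      Inv a H (ψ : H → ℂ) := by
    intro χ hχ ψ ho hu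
    have hstH : ∀ s, ∀ x ∈ H, a s x ∈ H := fun s x hx => by
      obtain ⟨l, hl, c, hc, rfl⟩ := (hS.memH x).1 hx
      exact (hS.memH _).2 ⟨a s l, hS.stL s l hl, c, hc, by rw [map_mul, hS.fixC s c hc]⟩
    rw [inv_iff hstH]
    intro s x
    have h1 := hu ⟨_, Char.IsIrrCharacter.comp_equiv ψ.2 (restrictAut a H hstH s)⟩ (by
      obtain ⟨k, hk, hko⟩ := ho
      refine ⟨k, ?_, hko⟩
      rw [← hk]
      conv_lhs => rw [show (fun h : H => (χ : G → ℂ) h)
        = (fun h : H => (χ : G → ℂ) h) ∘ restrictAut a H hstH s from funext fun h => (hχ s h).symm]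
      exact Char.classInner_reindex (restrictAut a H hstH s) (fun h : H => (χ : G → ℂ) h)
        (ψ : H → ℂ))
    exact congrFun (congrArg Subtype.val h1) x
  refine ⟨fun χ hχ hover => ?_, fun χ χ' h1 h2 o1 o2 ψ => hinj χ χ' (hχη χ h1 o1) (hχη χ' h2 o2) ψ,
    fun ψ hψ hψθ => ?_⟩
  · obtain ⟨ψ, ho, hu⟩ := huniq χ (hχη χ hχ hover)
    refine ⟨ψ, ho, hu, htw χ hχ ψ ho hu, ?_⟩
    obtain ⟨k, hk, hko⟩ := ho
    obtain ⟨f, -, -, hf⟩ := CharDeep.Clifford.restrict_eq_smul (N := L) χ.2 hθ hover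
      (fun g n => congrFun (hθG g) n)
    have hr := Char.IsCharacter.comp (Char.isCharacter_irr ψ) (Subgroup.inclusion hS.leH)
    obtain ⟨φ, hφ, hφ0⟩ := Char.IsCharacter.exists_constituent hr fun h => by
      have := congrFun h 1
      simp only [Function.comp_apply, map_one, Pi.zero_apply] at this
      exact Char.IsIrrCharacter.apply_one_ne_zero ψ.2 this
    have h2 := CharDeep.Clifford.classInner_ne_zero_trans
      (Char.IsCharacter.restrict (Char.isCharacter_irr χ) H) ψ.2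
      (by rw [hk]; exact Nat.cast_ne_zero.2 hko.pos.ne') (Subgroup.inclusion hS.leH)
      (Char.IsIrrCharacter.isCharacter hφ) hφ0
    rw [show ((fun h : H => (χ : G → ℂ) h) ∘ Subgroup.inclusion hS.leH) = (f : ℂ) • θ from hf,
      Char.classInner_smul_left] at h2
    by_cases hφθ : φ = θ
    · rw [hφθ] at hφ0; exact hφ0
    · rw [Char.classInner_irr_ne hθ hφ (Ne.symm hφθ), mul_zero] at h2
      exact absurd rfl h2
  · -- surjectivity
    have hLH : (L.subgroupOf H).Normal := inferInstance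
    have hθH : Cfsg.IsIrrCharacter (L.subgroupOf H)
        (θ ∘ Subgroup.subgroupOfEquivOfLe hS.leH) := Char.IsIrrCharacter.comp_equiv hθ _
    obtain ⟨f, hf0, -, hf⟩ := CharDeep.Clifford.restrict_eq_smul (N := L.subgroupOf H) ψ.2 hθH
      (by
        rw [show Cfsg.classInner (fun n : L.subgroupOf H => (ψ : H → ℂ) n)
          (θ ∘ Subgroup.subgroupOfEquivOfLe hS.leH)
            = Cfsg.classInner (fun l : L => (ψ : H → ℂ) ⟨l, hS.leH l.2⟩) θ from
          Char.classInner_reindex (Subgroup.subgroupOfEquivOfLe hS.leH)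
            (fun l : L => (ψ : H → ℂ) ⟨l, hS.leH l.2⟩) θ]
        exact hψθ)
      (fun g n => congrFun (hθG (g : G)) (Subgroup.subgroupOfEquivOfLe hS.leH n))
    have hodd_deg : ∀ {M : Subgroup G} [Fintype M] {φ : M → ℂ}, Cfsg.IsIrrCharacter M φ →
        ∃ n : ℕ, φ 1 = n ∧ Odd n := fun {M} _ φ hφ => by
      obtain ⟨n, hn, hd⟩ := Char.IsIrrCharacter.apply_one_dvd_card hφ
      exact ⟨n, hn, (hS.hodd.of_dvd_nat (Subgroup.card_subgroup_dvd_card M)).of_dvd_nat hd⟩
    obtain ⟨t, ht, hto⟩ := hodd_deg hθ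
    obtain ⟨p, hp, hpo⟩ := hodd_deg ψ.2
    obtain ⟨q, hq, hqo⟩ := hodd_deg η.2
    have he : Odd e := by
      have h1 : q = e * t := by
        have := heη 1
        rw [OneMemClass.coe_one, hq, show onK hS.le θ 1 = θ 1 by simp [onK], ht] at this
        exact_mod_cast this
      rw [h1] at hqo; exact (Nat.odd_mul.1 hqo).1
    have hf' : Odd f := by
      have h1 : p = f * t := by
        have := congrFun hf 1
        simp only [OneMemClass.coe_one, Pi.smul_apply, Function.comp_apply, map_one, smul_eq_mul,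
          hp, ht] at this
        exact_mod_cast this
      rw [h1] at hpo; exact (Nat.odd_mul.1 hpo).1
    obtain ⟨χ, hχ, ho⟩ := exists_over hS.le hS.leH hS.inf_le hS.factor (fun g l hl => hLn.conj_mem l hl g) hηG hθ'
      (Char.isCharacter_irr η) (Char.isCharacter_irr ψ) he hf' heη
      (fun l => congrFun hf ⟨⟨((l : K) : G), hS.leH (Subgroup.mem_subgroupOf.1 l.2)⟩,
        Subgroup.mem_subgroupOf.2 (Subgroup.mem_subgroupOf.1 l.2)⟩)
    refine ⟨χ, fun s g => ?_, ?_, ho⟩
    · set χ' : Cfsg.IrrCharacter G := ⟨_, Char.IsIrrCharacter.comp_equiv χ.2 (a s)⟩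
      have hχ' : Cfsg.classInner (fun k : K => (χ' : G → ℂ) k) (η : K → ℂ) ≠ 0 := by
        convert hχ using 1
        conv_lhs => rw [show (η : K → ℂ) = (η : K → ℂ) ∘ aK s from
          funext fun k => (hηS s k _ rfl).symm]
        exact Char.classInner_reindex (aK s) (fun k : K => (χ : G → ℂ) k) (η : K → ℂ)
      have hstH : ∀ s, ∀ x ∈ H, a s x ∈ H := fun s x hx => by
        obtain ⟨l, hl, c, hc, rfl⟩ := (hS.memH x).1 hx
        exact (hS.memH _).2 ⟨a s l, hS.stL s l hl, c, hc, by rw [map_mul, hS.fixC s c hc]⟩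
      have ho' : OddMult H (χ' : G → ℂ) (ψ : H → ℂ) := by
        obtain ⟨k, hk, hko⟩ := ho
        refine ⟨k, ?_, hko⟩
        rw [← hk]
        conv_lhs => rw [show (ψ : H → ℂ) = (ψ : H → ℂ) ∘ restrictAut a H hstH s from
          funext fun h => ((inv_iff hstH).1 hψ s h).symm]
        exact Char.classInner_reindex (restrictAut a H hstH s) (fun h : H => (χ : G → ℂ) h)
          (ψ : H → ℂ)
      exact congrFun (congrArg Subtype.val (hinj χ' χ hχ' hχ ψ ho' ho)) g
    · obtain ⟨n, π, m, -, hπc, hm0, hm⟩ := hrestr χ hχ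
      rw [show (fun l : L => (χ : G → ℂ) l) = ((m * e : ℕ) : ℂ) • θ from funext fun l => by
        have h1 := hm ⟨l, hS.le l.2⟩
        rw [hπc, hσchar] at h1
        rw [h1, show (η : K → ℂ) ⟨l, hS.le l.2⟩ = (e : ℂ) * θ l from
          heη ⟨⟨l, hS.le l.2⟩, Subgroup.mem_subgroupOf.2 l.2⟩, Pi.smul_apply, smul_eq_mul]
        push_cast; ring, Char.classInner_smul_left, Char.classInner_irr_self hθ, mul_one,
        Nat.cast_ne_zero]
      exact mul_ne_zero hm0 he0

end CfsgLib.DegreeTools.OddSection
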