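import Cfsg.Agent.Lib.DegreeTools.OddSection.Fixed
import Cfsg.Agent.Lib.CharDeep.Glauberman.NormalSylow

/-!
# The parity correspondence of an odd coprime section
-/

set_option autoImplicit false
set_option linter.style.haveILetI false
set_option linter.unusedSectionVars false

open scoped Classical ComplexConjugate commutatorElement

namespace CfsgLib.DegreeTools.OddSection

open CfsgLib CfsgLib.CharDeep

variable {G : Type*} [Group G] [Fintype G] {S : Type*} [Group S] [Finite S]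
  {a : S →* MulAut G} {K L C H : Subgroup G} [hKn : K.Normal] [hLn : L.Normal] [Fintype K]
  [Fintype L] [Fintype H] (hS : Sect a K L C H)

omit [Fintype G] in
/-- The intersection of two subgroups, seen inside each of them. -/
def swapEquiv (A B : Subgroup G) : A.subgroupOf B ≃* B.subgroupOf A where
  toFun x := ⟨⟨((x : B) : G), Subgroup.mem_subgroupOf.1 x.2⟩,
    Subgroup.mem_subgroupOf.2 (x : B).2⟩
  invFun x := ⟨⟨((x : A) : G), Subgroup.mem_subgroupOf.1 x.2⟩,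
    Subgroup.mem_subgroupOf.2 (x : A).2⟩
  left_inv _ := rfl
  right_inv _ := rfl
  map_mul' _ _ := rfl

omit [Fintype G] hKn [Fintype K] [Finite S] in
theorem mem_iff_of_stable {M : Subgroup G} (hM : ∀ s, ∀ x ∈ M, a s x ∈ M) (s : S) (x : G) :
    a s x ∈ M ↔ x ∈ M := by
  refine ⟨fun h => ?_, hM s x⟩
  have h' := hM s⁻¹ _ h
  rwa [← MulAut.mul_apply, ← map_mul a, inv_mul_cancel, map_one a, MulAut.one_apply] at h'

omit hKn [Fintype K] [Finite S] in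
/-- The multiplicities of restrictions agree at the inertia group. -/
theorem restrict_inertia {T : Subgroup G} [Fintype T] (hLT : L ≤ T) (hLH : L ≤ H) {θ : L → ℂ}
    (hθ : Cfsg.IsIrrCharacter L θ) (hT : Char.IsInertia θ T) {ξ : T → ℂ}
    (hξ : Cfsg.IsIrrCharacter T ξ) (hξθ : Cfsg.classInner (Char.resLe hLT ξ) θ ≠ 0)
    {ψ₀ : H.subgroupOf T → ℂ} (hψ₀i : Cfsg.IsIrrCharacter (H.subgroupOf T) ψ₀)
    (i : L →* H.subgroupOf T) (hi : ∀ l : L, ((i l : T) : G) = l)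
    (hψ₀ : Cfsg.classInner (ψ₀ ∘ i) θ ≠ 0) :
    Cfsg.classInner (fun h : H => Cfsg.indFun T ξ h)
        (Cfsg.indFun (T.subgroupOf H) (ψ₀ ∘ swapEquiv T H))
      = Cfsg.classInner (fun x : H.subgroupOf T => ξ x) ψ₀ := by
  obtain ⟨hχ, hmul⟩ := Char.indFun_inertia hLT hθ hT hξ hξθ
  set χ := Cfsg.indFun T ξ with hχdef
  have hχc := Char.IsIrrCharacter.isCharacter hχ
  rw [Char.classInner_indFun_right (T.subgroupOf H) _ (Char.IsCharacter.isClassFunction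
    (Char.IsCharacter.restrict hχc H))]
  refine (Char.classInner_reindex (swapEquiv T H)
    (fun x : H.subgroupOf T => χ ((x : T) : G)) ψ₀).trans ?_
  have hres := Char.IsCharacter.restrict hχc T
  have hmult : Cfsg.classInner (fun t : T => χ t) ξ = 1 := by
    rw [Char.IsCharacter.classInner_comm hres (Char.IsIrrCharacter.isCharacter hξ),
      ← Char.classInner_indFun T ξ (Char.IsIrrCharacter.isClassFunction hχ), ← hχdef,
      Char.classInner_irr_self hχ]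
  have hrest := CharDeep.Clifford.isCharacter_sub_of_constituent hres hξ
    (by rw [hmult]; exact one_ne_zero)
  rw [show (fun x : H.subgroupOf T => χ ((x : T) : G))
    = (fun x : H.subgroupOf T => ξ x)
      + (fun x : H.subgroupOf T => ((fun t : T => χ t) - ξ) x) from funext fun x => by simp,
    Char.classInner_add_left, add_eq_left]
  by_contra hne
  refine CharDeep.Clifford.classInner_ne_zero_trans
    (Char.IsCharacter.restrict hrest (H.subgroupOf T)) hψ₀i hne i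
    (Char.IsIrrCharacter.isCharacter hθ) hψ₀ ?_
  rw [show ((fun x : H.subgroupOf T => ((fun t : T => χ t) - ξ) x) ∘ i)
    = (fun l : L => χ l) - Char.resLe hLT ξ from funext fun l => by
      simp only [Function.comp_apply, Pi.sub_apply, Char.resLe, hi]
      rw [show (i l : T) = ⟨l, hLT l.2⟩ from Subtype.ext (hi l)],
    Char.classInner_sub_left, hmul, sub_self]

include hS

theorem Sect.stH (s : S) {x : G} (hx : x ∈ H) : a s x ∈ H := by
  obtain ⟨l, hl, c, hc, rfl⟩ := (hS.memH x).1 hx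
  exact (hS.memH _).2 ⟨a s l, hS.stL s l hl, c, hc, by rw [map_mul, hS.fixC s c hc]⟩

/-- The section cut down to a subgroup. -/
theorem Sect.sub {M : Subgroup G} (hM : ∀ s, ∀ x ∈ M, a s x ∈ M) (hLM : L ≤ M)
    (hgen : ∀ g ∈ M, ∃ k ∈ K, k ∈ M ∧ ∃ c ∈ C, c ∈ M ∧ g = k * c) :
    Sect (restrictAut a M hM) (K.subgroupOf M) (L.subgroupOf M) (C.subgroupOf M)
      (H.subgroupOf M) where
  hodd := hS.hodd.of_dvd_nat (Subgroup.card_subgroup_dvd_card M)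
  hcop := hS.hcop.coprime_dvd_right (Subgroup.card_subgroup_dvd_card M)
  le := fun x hx => Subgroup.mem_subgroupOf.2 (hS.le (Subgroup.mem_subgroupOf.1 hx))
  fixC := fun s c hc => Subtype.ext (hS.fixC s _ (Subgroup.mem_subgroupOf.1 hc))
  normK := inferInstance
  normL := inferInstance
  stK := fun s k hk => Subgroup.mem_subgroupOf.2 (hS.stK s _ (Subgroup.mem_subgroupOf.1 hk))
  stL := fun s l hl => Subgroup.mem_subgroupOf.2 (hS.stL s _ (Subgroup.mem_subgroupOf.1 hl))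
  hab := fun x hx y hy => Subgroup.mem_subgroupOf.2
    (hS.hab _ (Subgroup.mem_subgroupOf.1 hx) _ (Subgroup.mem_subgroupOf.1 hy))
  hfix := fun k hk h => Subgroup.mem_subgroupOf.2 (hS.hfix _ (Subgroup.mem_subgroupOf.1 hk)
    fun s => Subgroup.mem_subgroupOf.1 (h s))
  hgen := fun g => by
    obtain ⟨k, hk, hkM, c, hc, hcM, e⟩ := hgen g g.2
    exact ⟨⟨k, hkM⟩, Subgroup.mem_subgroupOf.2 hk, ⟨c, hcM⟩, Subgroup.mem_subgroupOf.2 hc,
      Subtype.ext e⟩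
  memH := fun x => by
    rw [Subgroup.mem_subgroupOf, hS.memH]
    constructor
    · rintro ⟨l, hl, c, hc, e⟩
      have hcM : c ∈ M := by
        have := M.mul_mem (M.inv_mem (hLM hl)) x.2
        rwa [e, inv_mul_cancel_left] at this
      exact ⟨⟨l, hLM hl⟩, Subgroup.mem_subgroupOf.2 hl, ⟨c, hcM⟩, Subgroup.mem_subgroupOf.2 hc,
        Subtype.ext e⟩
    · rintro ⟨l, hl, c, hc, e⟩
      exact ⟨l, Subgroup.mem_subgroupOf.1 hl, c, Subgroup.mem_subgroupOf.1 hc,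
        congrArg Subtype.val e⟩

omit hS in
/-- An invariant character of a subgroup has a fixed constituent, in the terms of the big group. -/
theorem onto_sub {M : Subgroup G} [Fintype M] (hM : ∀ s, ∀ x ∈ M, a s x ∈ M) (hLM : L ≤ M)
    (hL : ∀ s, ∀ l ∈ L.subgroupOf M, restrictAut a M hM s l ∈ L.subgroupOf M) {ψ : M → ℂ}
    (h : ∃ θ : L.subgroupOf M → ℂ, Cfsg.IsIrrCharacter (L.subgroupOf M) θ ∧
      Inv (restrictAut a M hM) (L.subgroupOf M) θ ∧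
        Cfsg.classInner (fun l : L.subgroupOf M => ψ l) θ ≠ 0) :
    ∃ θ : L → ℂ, Cfsg.IsIrrCharacter L θ ∧ Inv a L θ ∧
      Cfsg.classInner (fun l : L => ψ ⟨l, hLM l.2⟩) θ ≠ 0 := by
  obtain ⟨θ, hθ, hI, h0⟩ := h
  refine ⟨θ ∘ (Subgroup.subgroupOfEquivOfLe hLM).symm, Char.IsIrrCharacter.comp_equiv hθ _,
    fun s x y hxy => hI s _ _ (Subtype.ext hxy), ?_⟩
  convert h0 using 1
  exact Char.classInner_reindex (Subgroup.subgroupOfEquivOfLe hLM).symm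
    (fun l : L.subgroupOf M => ψ l) θ

theorem exists_fixed_H {ψ : H → ℂ} (hψ : Cfsg.IsIrrCharacter H ψ) (hI : Inv a H ψ) :
    ∃ θ : L → ℂ, Cfsg.IsIrrCharacter L θ ∧ Inv a L θ ∧
      Cfsg.classInner (fun l : L => ψ ⟨l, hS.leH l.2⟩) θ ≠ 0 := by
  have hsub := hS.sub (M := H) (fun s x hx => hS.stH s hx) hS.leH fun g hg => by
    obtain ⟨l, hl, c, hc, e⟩ := (hS.memH g).1 hg
    exact ⟨l, hS.le hl, hS.leH hl, c, hc, hS.leC hc, e⟩
  exact onto_sub (fun s x hx => hS.stH s hx) hS.leH hsub.stL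
    (exists_fixed_constituent hsub hψ fun s g => hI s g _ rfl)

section Stab

variable {θ : L → ℂ} (hθ : Cfsg.IsIrrCharacter L θ) (hI : Inv a L θ)

include hθ hI

omit hθ in
theorem Sect.stStab (s : S) {g : G} (hg : g ∈ Char.stab θ) : a s g ∈ Char.stab θ := by
  rw [Char.mem_stab]
  have h1 := tw_conjG hS s θ (a s g)
  rw [← MulAut.mul_apply, ← map_mul a, inv_mul_cancel, map_one a, MulAut.one_apply,
    (inv_iff_tw hS).1 hI s, Char.mem_stab.1 hg] at h1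
  have h2 := congrArg (tw a L hS.stL s⁻¹) h1
  rw [(inv_iff_tw hS).1 hI s⁻¹] at h2
  refine Eq.trans ?_ h2
  funext l
  show _ = Char.conjG θ (a s g) (restrictAut a L hS.stL s (restrictAut a L hS.stL s⁻¹ l))
  rw [← MulAut.mul_apply, ← map_mul, mul_inv_cancel, map_one, MulAut.one_apply]

set_option maxHeartbeats 800000 in
theorem stab_facts [Fintype (Char.stab θ)] :
    (∀ χ : Cfsg.IrrCharacter G, (∀ s g, (χ : G → ℂ) (a s g) = (χ : G → ℂ) g) →
      Cfsg.classInner (fun l : L => (χ : G → ℂ) l) θ ≠ 0 →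
      ∃ ψ : Cfsg.IrrCharacter H, Inv a H (ψ : H → ℂ) ∧ OddMult H (χ : G → ℂ) (ψ : H → ℂ) ∧
        ∀ ψ' : Cfsg.IrrCharacter H,
          Cfsg.classInner (fun l : L => (ψ' : H → ℂ) ⟨l, hS.leH l.2⟩) θ ≠ 0 →
          OddMult H (χ : G → ℂ) (ψ' : H → ℂ) → ψ' = ψ) ∧
    (∀ χ χ' : Cfsg.IrrCharacter G, (∀ s g, (χ : G → ℂ) (a s g) = (χ : G → ℂ) g) →
      (∀ s g, (χ' : G → ℂ) (a s g) = (χ' : G → ℂ) g) →
      Cfsg.classInner (fun l : L => (χ : G → ℂ) l) θ ≠ 0 →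
      Cfsg.classInner (fun l : L => (χ' : G → ℂ) l) θ ≠ 0 →
      ∀ ψ : Cfsg.IrrCharacter H,
        Cfsg.classInner (fun l : L => (ψ : H → ℂ) ⟨l, hS.leH l.2⟩) θ ≠ 0 →
        OddMult H (χ : G → ℂ) (ψ : H → ℂ) → OddMult H (χ' : G → ℂ) (ψ : H → ℂ) → χ = χ') ∧
    (∀ ψ : Cfsg.IrrCharacter H, Inv a H (ψ : H → ℂ) →
      Cfsg.classInner (fun l : L => (ψ : H → ℂ) ⟨l, hS.leH l.2⟩) θ ≠ 0 →
      ∃ χ : Cfsg.IrrCharacter G, (∀ s g, (χ : G → ℂ) (a s g) = (χ : G → ℂ) g) ∧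
        OddMult H (χ : G → ℂ) (ψ : H → ℂ)) := by
  set T := Char.stab θ with hTdef
  have hLT : L ≤ T := Char.le_stab (Char.IsIrrCharacter.isClassFunction hθ)
  have hT : Char.IsInertia θ T := Char.isInertia_stab θ
  have hTS : ∀ s, ∀ x ∈ T, a s x ∈ T := fun s x hx => hS.stStab hI s hx
  set aT := restrictAut a T hTS
  have hST := hS.sub hTS hLT fun g hg => stab_factor hS hθ hI hg
  set θT : L.subgroupOf T → ℂ := θ ∘ Subgroup.subgroupOfEquivOfLe hLT with hθTdef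
  have hθT : Cfsg.IsIrrCharacter (L.subgroupOf T) θT := Char.IsIrrCharacter.comp_equiv hθ _
  have hθTG : ∀ g : T, Char.conjG θT g = θT := fun g => funext fun l =>
    congrFun (Char.mem_stab.1 g.2) (Subgroup.subgroupOfEquivOfLe hLT l)
  have hθTS : Inv aT (L.subgroupOf T) θT := fun s x y hxy =>
    hI s _ _ (congrArg Subtype.val hxy)
  obtain ⟨hex, hinj, hsur⟩ := invariant_case hST hθT hθTG hθTS
  have hξL : ∀ ξ : T → ℂ, Cfsg.classInner (fun l : L.subgroupOf T => ξ l) θT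
      = Cfsg.classInner (Char.resLe hLT ξ) θ := fun ξ => Char.classInner_resLe hLT ξ θ
  -- characters of `G` over `θ`
  have hG1 : ∀ χ : Cfsg.IrrCharacter G, (∀ s g, (χ : G → ℂ) (a s g) = (χ : G → ℂ) g) →
      Cfsg.classInner (fun l : L => (χ : G → ℂ) l) θ ≠ 0 →
      ∃ ξ : Cfsg.IrrCharacter T, (∀ s g, (ξ : T → ℂ) (aT s g) = (ξ : T → ℂ) g) ∧
        Cfsg.classInner (fun l : L.subgroupOf T => (ξ : T → ℂ) l) θT ≠ 0 ∧
        (χ : G → ℂ) = Cfsg.indFun T (ξ : T → ℂ) := by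
    intro χ hχ hover
    obtain ⟨ξ, hξ, hξθ, e⟩ := Char.exists_eq_indFun_inertia hLT hθ hT χ.2 hover
    refine ⟨⟨ξ, hξ⟩, fun s g => ?_, by rwa [hξL], e⟩
    have hξ' := Char.IsIrrCharacter.comp_equiv hξ (aT s)
    have hover' : Cfsg.classInner (Char.resLe hLT (ξ ∘ aT s)) θ ≠ 0 := by
      convert hξθ using 1
      conv_lhs => rw [show θ = θ ∘ restrictAut a L hS.stL s from
        ((inv_iff_tw hS).1 hI s).symm]
      exact Char.classInner_reindex (restrictAut a L hS.stL s) (Char.resLe hLT ξ) θ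
    have h1 : Cfsg.indFun T (ξ ∘ aT s) = Cfsg.indFun T ξ := funext fun g => by
      rw [CharDeep.Glauberman.indFun_comp_equiv T ξ (ξ ∘ aT s) (a s) (fun x => ⟨fun h => by
          have := hTS s⁻¹ _ h
          rwa [← MulAut.mul_apply, ← map_mul a, inv_mul_cancel, map_one a,
            MulAut.one_apply] at this, hTS s x⟩)
        (fun t t' ht => congrArg ξ (Subtype.ext ht.symm)) g, ← e]
      exact hχ s g
    exact congrFun (Char.indFun_inertia_inj hLT hθ hT hξ' hover' hξ hξθ h1) g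
  -- characters of `H` over `θ`
  set LH := L.subgroupOf H
  set TH := T.subgroupOf H
  have hLTH : LH ≤ TH := fun x hx => Subgroup.mem_subgroupOf.2 (hLT (Subgroup.mem_subgroupOf.1 hx))
  set θH : LH → ℂ := θ ∘ Subgroup.subgroupOfEquivOfLe hS.leH with hθHdef
  have hθH : Cfsg.IsIrrCharacter LH θH := Char.IsIrrCharacter.comp_equiv hθ _
  have hTH : Char.IsInertia θH TH := fun g => by
    rw [Subgroup.mem_subgroupOf, hT (g : G)]
    exact ⟨fun h l => h (Subgroup.subgroupOfEquivOfLe hS.leH l),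
      fun h l => h ((Subgroup.subgroupOfEquivOfLe hS.leH).symm l)⟩
  set e := swapEquiv T H with hedef
  have hψ0L : ∀ φ : H.subgroupOf T → ℂ, Cfsg.classInner (Char.resLe hLTH (φ ∘ e)) θH
      = Cfsg.classInner (fun l : L.subgroupOf T => φ ⟨l, hST.leH l.2⟩) θT := fun φ => by
    let e' : LH ≃* L.subgroupOf T := (Subgroup.subgroupOfEquivOfLe hS.leH).trans
      (Subgroup.subgroupOfEquivOfLe hLT).symm
    exact Char.classInner_reindex e' (fun l : L.subgroupOf T => φ ⟨l, hST.leH l.2⟩) θT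
  have hψL : ∀ ψ : H → ℂ, Cfsg.classInner (fun l : LH => ψ l) θH
      = Cfsg.classInner (fun l : L => ψ ⟨l, hS.leH l.2⟩) θ := fun ψ =>
    Char.classInner_reindex (Subgroup.subgroupOfEquivOfLe hS.leH)
      (fun l : L => ψ ⟨l, hS.leH l.2⟩) θ
  let iL : L →* H.subgroupOf T :=
    (Subgroup.inclusion hST.leH).comp (Subgroup.subgroupOfEquivOfLe hLT).symm.toMonoidHom
  have hiθ : ∀ φ : H.subgroupOf T → ℂ, Cfsg.classInner (φ ∘ iL) θ
      = Cfsg.classInner (fun l : L.subgroupOf T => φ ⟨l, hST.leH l.2⟩) θT := fun φ =>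
    (Char.classInner_reindex (Subgroup.subgroupOfEquivOfLe hLT) (φ ∘ iL) θ).symm.trans (by
      congr 1)
  have keyOdd : ∀ (χ : Cfsg.IrrCharacter G) (ξ : Cfsg.IrrCharacter T)
      (ψ₀ : Cfsg.IrrCharacter (H.subgroupOf T)) (ψ : Cfsg.IrrCharacter H),
      (χ : G → ℂ) = Cfsg.indFun T (ξ : T → ℂ) →
      Cfsg.classInner (fun l : L.subgroupOf T => (ξ : T → ℂ) l) θT ≠ 0 →
      Cfsg.classInner (fun l : L.subgroupOf T => (ψ₀ : H.subgroupOf T → ℂ) ⟨l, hST.leH l.2⟩) θT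
        ≠ 0 →
      (ψ : H → ℂ) = Cfsg.indFun TH ((ψ₀ : _ → ℂ) ∘ e) →
      (OddMult H (χ : G → ℂ) (ψ : H → ℂ)
        ↔ OddMult (H.subgroupOf T) (ξ : T → ℂ) (ψ₀ : _ → ℂ)) := by
    intro χ ξ ψ₀ ψ h1 h2 h3 h4
    unfold OddMult
    rw [h4, h1, restrict_inertia hLT hS.leH hθ hT ξ.2 (by rw [← hξL]; exact h2) ψ₀.2 iL
      (fun l => rfl) (by rw [hiθ]; exact h3)]
  have hH1 : ∀ ψ : Cfsg.IrrCharacter H,
      Cfsg.classInner (fun l : L => (ψ : H → ℂ) ⟨l, hS.leH l.2⟩) θ ≠ 0 →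
      ∃ ψ₀ : Cfsg.IrrCharacter (H.subgroupOf T),
        Cfsg.classInner (fun l : L.subgroupOf T => (ψ₀ : H.subgroupOf T → ℂ) ⟨l, hST.leH l.2⟩) θT
          ≠ 0 ∧ (ψ : H → ℂ) = Cfsg.indFun TH ((ψ₀ : _ → ℂ) ∘ e) := by
    intro ψ hψ
    rw [← hψL] at hψ
    obtain ⟨ψ₁, h1, h2, h3⟩ := Char.exists_eq_indFun_inertia hLTH hθH hTH ψ.2 hψ
    refine ⟨⟨ψ₁ ∘ e.symm, Char.IsIrrCharacter.comp_equiv h1 _⟩, ?_, ?_⟩
    · rw [← hψ0L]
      convert h2 using 3
      funext x; simp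
    · rw [h3]; congr 1
  refine ⟨fun χ hχ hover => ?_, fun χ χ' hχ hχ' hov hov' ψ hψ o o' => ?_, fun ψ hψI hψ => ?_⟩
  · obtain ⟨ξ, hξI, hξθ, hχξ⟩ := hG1 χ hχ hover
    obtain ⟨ψ₀, ho, hu, hψ₀I, hψ₀θ⟩ := hex ξ hξI hξθ
    have hψ₀' : Cfsg.IsIrrCharacter TH ((ψ₀ : _ → ℂ) ∘ e) :=
      Char.IsIrrCharacter.comp_equiv ψ₀.2 e
    have hψ₀θ' : Cfsg.classInner (Char.resLe hLTH ((ψ₀ : _ → ℂ) ∘ e)) θH ≠ 0 := by
      rw [hψ0L]; exact hψ₀θ
    obtain ⟨hirr, -⟩ := Char.indFun_inertia hLTH hθH hTH hψ₀' hψ₀θ'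
    refine ⟨⟨_, hirr⟩, ?_, (keyOdd χ ξ ψ₀ ⟨_, hirr⟩ hχξ hξθ hψ₀θ rfl).2 ho, fun ψ' h1 h2 => ?_⟩
    · intro s x y hxy
      have hyx : y = restrictAut a H (fun s x hx => hS.stH s hx) s x := Subtype.ext hxy
      rw [hyx]
      show Cfsg.indFun TH _ _ = Cfsg.indFun TH _ _
      refine (CharDeep.Glauberman.indFun_comp_equiv TH _ ((ψ₀ : _ → ℂ) ∘ e)
        (restrictAut a H (fun s x hx => hS.stH s hx) s) (fun z => ?_) (fun t t' ht => ?_) x).symm
      · simp only [TH, Subgroup.mem_subgroupOf, restrictAut_val]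
        exact ⟨fun h => by
          have := hTS s⁻¹ _ h
          rwa [← MulAut.mul_apply, ← map_mul a, inv_mul_cancel, map_one a,
            MulAut.one_apply] at this, hTS s _⟩
      · exact (hψ₀I s (e t) (e t') (Subtype.ext (congrArg (fun z : H => (z : G)) ht :))).symm
    · obtain ⟨ψ₁, hψ₁θ, hψ'⟩ := hH1 ψ' h1
      refine Subtype.ext ?_
      rw [hψ', hu ψ₁ ((keyOdd χ ξ ψ₁ ψ' hχξ hξθ hψ₁θ hψ').1 h2)]
  · obtain ⟨ξ, hξI, hξθ, hχξ⟩ := hG1 χ hχ hov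
    obtain ⟨ξ', hξI', hξθ', hχξ'⟩ := hG1 χ' hχ' hov'
    obtain ⟨ψ₀, hψ₀θ, hψ'⟩ := hH1 ψ hψ
    have := hinj ξ ξ' hξI hξI' hξθ hξθ' ψ₀ ((keyOdd χ ξ ψ₀ ψ hχξ hξθ hψ₀θ hψ').1 o)
      ((keyOdd χ' ξ' ψ₀ ψ hχξ' hξθ' hψ₀θ hψ').1 o')
    exact Subtype.ext (by rw [hχξ, hχξ', this])
  · obtain ⟨ψ₀, hψ₀θ, hψ'⟩ := hH1 ψ hψ
    have hstH : ∀ s, ∀ x ∈ H, a s x ∈ H := fun s x hx => hS.stH s hx
    have hψ₀I : Inv aT (H.subgroupOf T) (ψ₀ : _ → ℂ) := by
      rw [inv_iff (fun s x hx => hST.stH s hx)]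
      intro s x
      set b := restrictAut aT (H.subgroupOf T) (fun s x hx => hST.stH s hx) s
      have hirr' : Cfsg.IsIrrCharacter TH (((ψ₀ : _ → ℂ) ∘ b) ∘ e) :=
        Char.IsIrrCharacter.comp_equiv (Char.IsIrrCharacter.comp_equiv ψ₀.2 b) e
      have hirr0 : Cfsg.IsIrrCharacter TH ((ψ₀ : _ → ℂ) ∘ e) :=
        Char.IsIrrCharacter.comp_equiv ψ₀.2 e
      have hov : Cfsg.classInner (fun l : L.subgroupOf T => ((ψ₀ : _ → ℂ) ∘ b)
          ⟨l, hST.leH l.2⟩) θT ≠ 0 := by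
        convert hψ₀θ using 1
        conv_lhs => rw [show θT = θT ∘ restrictAut aT (L.subgroupOf T) hST.stL s from
          funext fun l => ((inv_iff hST.stL).1 hθTS s l).symm]
        exact Char.classInner_reindex (restrictAut aT (L.subgroupOf T) hST.stL s)
          (fun l : L.subgroupOf T => (ψ₀ : H.subgroupOf T → ℂ) ⟨l, hST.leH l.2⟩) θT
      have h1 : Cfsg.indFun TH (((ψ₀ : _ → ℂ) ∘ b) ∘ e) = Cfsg.indFun TH ((ψ₀ : _ → ℂ) ∘ e) :=
        funext fun z => by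
        rw [CharDeep.Glauberman.indFun_comp_equiv TH ((ψ₀ : _ → ℂ) ∘ e) (((ψ₀ : _ → ℂ) ∘ b) ∘ e)
          (restrictAut a H hstH s) (fun z => by
            simp only [TH, Subgroup.mem_subgroupOf, restrictAut_val]
            exact ⟨fun h => by
              have := hTS s⁻¹ _ h
              rwa [← MulAut.mul_apply, ← map_mul a, inv_mul_cancel, map_one a,
                MulAut.one_apply] at this, hTS s _⟩)
          (fun t t' ht => congrArg (ψ₀ : _ → ℂ) (show b (e t) = e t' from Subtype.ext (Subtype.ext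
            (congrArg (fun z : H => (z : G)) ht :).symm))) z, ← hψ']
        exact hψI s z _ rfl
      have h2 := Char.indFun_inertia_inj hLTH hθH hTH hirr' (by rw [hψ0L]; exact hov) hirr0
        (by rw [hψ0L]; exact hψ₀θ) h1
      have h3 := congrFun h2 (e.symm x)
      simpa using h3
    obtain ⟨ξ, hξI, hξθ, ho⟩ := hsur ψ₀ hψ₀I hψ₀θ
    obtain ⟨hirr, -⟩ := Char.indFun_inertia hLT hθ hT ξ.2 (by rw [← hξL]; exact hξθ)
    refine ⟨⟨_, hirr⟩, fun s g => ?_, (keyOdd ⟨_, hirr⟩ ξ ψ₀ ψ rfl hξθ hψ₀θ hψ').2 ho⟩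
    refine (CharDeep.Glauberman.indFun_comp_equiv T (ξ : T → ℂ) (ξ : T → ℂ) (a s) (fun x => ⟨fun h => by
        have := hTS s⁻¹ _ h
        rwa [← MulAut.mul_apply, ← map_mul a, inv_mul_cancel, map_one a,
          MulAut.one_apply] at this, hTS s x⟩) (fun t t' ht => ?_) g).symm
    rw [show t' = aT s t from Subtype.ext ht]
    exact (hξI s t).symm

end Stab

/-- The correspondence. -/
theorem sect_main :
    (∀ χ : Cfsg.IrrCharacter G, (∀ s g, (χ : G → ℂ) (a s g) = (χ : G → ℂ) g) →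
      ∃! ψ : Cfsg.IrrCharacter H, Inv a H (ψ : H → ℂ) ∧ OddMult H (χ : G → ℂ) (ψ : H → ℂ)) ∧
    (∀ χ χ' : Cfsg.IrrCharacter G, (∀ s g, (χ : G → ℂ) (a s g) = (χ : G → ℂ) g) →
      (∀ s g, (χ' : G → ℂ) (a s g) = (χ' : G → ℂ) g) →
      ∀ ψ : Cfsg.IrrCharacter H, Inv a H (ψ : H → ℂ) →
        OddMult H (χ : G → ℂ) (ψ : H → ℂ) → OddMult H (χ' : G → ℂ) (ψ : H → ℂ) → χ = χ') ∧
    (∀ ψ : Cfsg.IrrCharacter H, Inv a H (ψ : H → ℂ) →
      ∃ χ : Cfsg.IrrCharacter G, (∀ s g, (χ : G → ℂ) (a s g) = (χ : G → ℂ) g) ∧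
        OddMult H (χ : G → ℂ) (ψ : H → ℂ)) := by
  have hup : ∀ (χ : Cfsg.IrrCharacter G) (ψ : Cfsg.IrrCharacter H) {θ : L → ℂ},
      Cfsg.IsIrrCharacter L θ → OddMult H (χ : G → ℂ) (ψ : H → ℂ) →
      Cfsg.classInner (fun l : L => (ψ : H → ℂ) ⟨l, hS.leH l.2⟩) θ ≠ 0 →
      Cfsg.classInner (fun l : L => (χ : G → ℂ) l) θ ≠ 0 := by
    intro χ ψ θ hθ ho h
    obtain ⟨k, hk, hko⟩ := ho
    exact CharDeep.Clifford.classInner_ne_zero_trans
      (Char.IsCharacter.restrict (Char.isCharacter_irr χ) H) ψ.2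
      (by rw [hk]; exact Nat.cast_ne_zero.2 hko.pos.ne') (Subgroup.inclusion hS.leH)
      (Char.IsIrrCharacter.isCharacter hθ) h
  refine ⟨fun χ hχ => ?_, fun χ χ' hχ hχ' ψ hψ o o' => ?_, fun ψ hψ => ?_⟩
  · obtain ⟨θ, hθ, hI, h0⟩ := exists_fixed_constituent hS χ.2 hχ
    obtain ⟨ψ, hψI, ho, hu⟩ := (stab_facts hS hθ hI).1 χ hχ h0
    refine ⟨ψ, ⟨hψI, ho⟩, fun ψ' h => hu ψ' ?_ h.2⟩
    obtain ⟨θ', hθ', hI', h0'⟩ := exists_fixed_H hS ψ'.2 h.1
    obtain ⟨c, hc, e⟩ := fixed_constituent_conj hS χ.2 hθ hθ' hI hI' h0 (hup χ ψ' hθ' h.2 h0')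
    subst e
    have hinv : Char.conjG (fun l : L => (ψ' : H → ℂ) ⟨l, hS.leH l.2⟩) c
        = fun l : L => (ψ' : H → ℂ) ⟨l, hS.leH l.2⟩ := funext fun l => by
      rw [Char.conjG_apply]
      exact Char.IsIrrCharacter.isClassFunction ψ'.2 ⟨l, hS.leH l.2⟩ ⟨c, hS.leC hc⟩
    rw [← hinv, Char.classInner_conjG] at h0'
    exact h0'
  · obtain ⟨θ, hθ, hI, h0⟩ := exists_fixed_H hS ψ.2 hψ
    exact (stab_facts hS hθ hI).2.1 χ χ' hχ hχ' (hup χ ψ hθ o h0) (hup χ' ψ hθ o' h0) ψ h0 o o'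
  · obtain ⟨θ, hθ, hI, h0⟩ := exists_fixed_H hS ψ.2 hψ
    exact (stab_facts hS hθ hI).2.2 ψ hψ h0

end CfsgLib.DegreeTools.OddSection
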