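import Cfsg.Agent.Lib.DegreeTools.OddSection.Pieces
import Cfsg.Agent.Lib.DegreeTools.OddSection.BaerForm

/-!
# The parity involution of a coprime operator group on an odd section
-/

set_option autoImplicit false
set_option linter.style.haveILetI false
set_option linter.unusedSectionVars false

open scoped Classical commutatorElement
open Module

namespace CfsgLib.DegreeTools.OddSection

open CfsgLib.CharDeep CfsgLib.CharDeep.HomogLift CfsgLib.CharDeep.Implementers

variable {K : Type*} [Group K] [Fintype K] {U : Type*} [AddCommGroup U] [Module ℂ U]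
  [FiniteDimensional ℂ U] (σ : Representation ℂ K U) [σ.IsIrreducible] (L : Subgroup K)

theorem finite_le_of_maps {f : MulAut K} (hf : ∀ l ∈ L, f l ∈ L) : ∀ l ∈ L, f.symm l ∈ L := by
  intro l hl
  obtain ⟨y, hy⟩ := Finite.surjective_of_injective (α := L)
    (f := fun x : L => (⟨f x, hf x x.2⟩ : L))
    (fun x y h => Subtype.ext (f.injective (congrArg Subtype.val h))) ⟨l, hl⟩
  rw [← show f y = l from congrArg Subtype.val hy, f.symm_apply_apply]
  exact y.2

/-- `A` implements `f`. -/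
def Twines (f : MulAut K) (A : (Module.End ℂ U)ˣ) : Prop :=
  ∀ k, (A : Module.End ℂ U) * σ k = σ (f k) * A

variable {σ}

theorem twines_inv {f : MulAut K} {A : (Module.End ℂ U)ˣ} (h : Twines σ f A) :
    Twines σ f.symm A⁻¹ := fun k => by
  have := h (f.symm k)
  rw [f.apply_symm_apply] at this
  rw [Units.inv_mul_eq_iff_eq_mul, ← mul_assoc, this, Units.mul_inv_cancel_right]

theorem twines_mul {f g : MulAut K} {A B : (Module.End ℂ U)ˣ} (hA : Twines σ f A)
    (hB : Twines σ g B) : Twines σ (f * g) (A * B) := fun k => by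
  rw [Units.val_mul, mul_assoc, hB, ← mul_assoc, hA, mul_assoc, MulAut.mul_apply]

theorem twines_unique {f : MulAut K} {A B : (Module.End ℂ U)ˣ} (hA : Twines σ f A)
    (hB : Twines σ f B) : ∃ c : ℂˣ, B = scal c * A := by
  haveI := IrrTools.apply_ne_zero_of_isIrreducible σ
  obtain ⟨c, hc⟩ := IrrTools.exists_smul_of_commute σ
    ((A⁻¹ * B : (Module.End ℂ U)ˣ) : Module.End ℂ U) fun k => by
      rw [Units.val_mul, mul_assoc, hB, ← mul_assoc, ← mul_assoc]
      congr 1
      rw [Units.inv_mul_eq_iff_eq_mul, ← mul_assoc, hA, Units.mul_inv_cancel_right]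
  have hc0 : c ≠ 0 := fun h => (A⁻¹ * B).ne_zero (by rw [hc, h, zero_smul])
  refine ⟨Units.mk0 c hc0, ?_⟩
  rw [(scal_comm _ A).eq, ← inv_mul_eq_iff_eq_mul]
  exact Units.ext (by rw [scal_val, Units.val_mk0]; exact hc)

theorem pc_conj {f : MulAut K} {A : (Module.End ℂ U)ˣ} (hA : Twines σ f A) {a : K →* ℂˣ}
    {X : Module.End ℂ U} (hX : Pc σ a X) :
    Pc σ (a.comp f.symm.toMonoidHom) ((A : Module.End ℂ U) * X * ↑A⁻¹) := fun k => by
  have h1 := hA (f.symm k)
  rw [f.apply_symm_apply] at h1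
  have h2 := twines_inv hA k
  calc σ k * ((A : Module.End ℂ U) * X * ↑A⁻¹)
      = (A : Module.End ℂ U) * (σ (f.symm k) * X) * ↑A⁻¹ := by
        rw [← mul_assoc, ← mul_assoc, ← h1]; simp only [mul_assoc]
    _ = (a (f.symm k) : ℂ) • ((A : Module.End ℂ U) * X * (σ (f.symm k) * ↑A⁻¹)) := by
        rw [hX, mul_smul_comm, smul_mul_assoc]; simp only [mul_assoc]
    _ = _ := by rw [← h2, ← mul_assoc]; rfl

theorem inE_conj {f : MulAut K} (hf : ∀ l ∈ L, f l ∈ L) {A : (Module.End ℂ U)ˣ}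
    (hA : Twines σ f A) {u : (Module.End ℂ U)ˣ} (hu : InE σ L u) : InE σ L (A * u * A⁻¹) := by
  obtain ⟨huN, a, haL, hua⟩ := hu
  refine ⟨by rw [conj_pow, huN, mul_one, mul_inv_cancel], a.comp f.symm.toMonoidHom,
    fun l hl => haL _ (finite_le_of_maps L hf l hl), ?_⟩
  rw [Units.val_mul, Units.val_mul]
  exact pc_conj hA hua

variable (hodd : Odd (Nat.card K))

/-- Conjugation by an implementer. -/
def conjE {f : MulAut K} (hf : ∀ l ∈ L, f l ∈ L) {A : (Module.End ℂ U)ˣ} (hA : Twines σ f A) :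
    MulAut (Eg σ L hodd) where
  toFun u := ⟨A * u * A⁻¹, inE_conj L hf hA u.2⟩
  invFun u := ⟨A⁻¹ * u * A⁻¹⁻¹,
    inE_conj L (finite_le_of_maps L hf) (twines_inv hA) u.2⟩
  left_inv u := Subtype.ext (by simp [mul_assoc])
  right_inv u := Subtype.ext (by simp [mul_assoc])
  map_mul' u v := Subtype.ext (by simp [mul_assoc])

theorem conjE_val {f : MulAut K} (hf : ∀ l ∈ L, f l ∈ L) {A : (Module.End ℂ U)ˣ}
    (hA : Twines σ f A) (u : Eg σ L hodd) :
    ((conjE L hodd hf hA u : Eg σ L hodd) : (Module.End ℂ U)ˣ) = A * u * A⁻¹ := rfl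

theorem conj_eq {f : MulAut K} {A B : (Module.End ℂ U)ˣ} (hA : Twines σ f A) (hB : Twines σ f B)
    (u : (Module.End ℂ U)ˣ) : B * u * B⁻¹ = A * u * A⁻¹ := by
  obtain ⟨c, rfl⟩ := twines_unique hA hB
  rw [mul_inv_rev, show scal c * A * u * (A⁻¹ * (scal c)⁻¹)
    = scal c * (A * u * A⁻¹) * (scal c)⁻¹ by simp only [mul_assoc], (scal_comm c _).eq,
    mul_inv_cancel_right]

/-- A character of the quotient that separates an element from the subgroup. -/
theorem exists_hom_ne_one [L.Normal] (hab : ∀ x y : K, ⁅x, y⁆ ∈ L) {k : K} (hk : k ∉ L) :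
    ∃ a : K →* ℂˣ, (∀ l ∈ L, a l = 1) ∧ a k ≠ 1 := by
  letI : CommGroup (K ⧸ L) :=
    { (inferInstance : Group (K ⧸ L)) with
      mul_comm := fun x y => by
        induction x using QuotientGroup.induction_on with
        | H x =>
        induction y using QuotientGroup.induction_on with
        | H y =>
        rw [← commutatorElement_eq_one_iff_mul_comm, ← QuotientGroup.mk'_apply,
          ← QuotientGroup.mk'_apply, ← map_commutatorElement, QuotientGroup.mk'_apply,
          QuotientGroup.eq_one_iff]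
        exact hab x y }
  haveI : Finite (K ⧸ L) := inferInstance
  haveI : NeZero (Monoid.exponent (K ⧸ L)) := ⟨Monoid.exponent_ne_zero_of_finite⟩
  obtain ⟨b, hb⟩ := CommGroup.exists_apply_ne_one_of_hasEnoughRootsOfUnity (K ⧸ L) ℂ
    (a := (k : K ⧸ L)) (by rwa [ne_eq, QuotientGroup.eq_one_iff])
  exact ⟨b.comp (QuotientGroup.mk' L), fun l hl => by
    rw [MonoidHom.comp_apply, QuotientGroup.mk'_apply, (QuotientGroup.eq_one_iff l).2 hl, map_one],
    hb⟩

variable {W : Type*} [AddCommGroup W] [Module ℂ W] [FiniteDimensional ℂ W]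

section Main

variable (σ) [L.Normal] (hab : ∀ x y : K, ⁅x, y⁆ ∈ L) {S : Type*} [Group S] [Finite S]
  (a : S →* MulAut K) (haL : ∀ s, ∀ l ∈ L, a s l ∈ L)
  (hσ : ∀ s k, σ.character (a s k) = σ.character k)
  (hfix : ∀ k : K, (∀ s, a s k * k⁻¹ ∈ L) → k ∈ L)
  (hcop : (Nat.card S).Coprime (Nat.card K))
  (ρ : Representation ℂ L W) [ρ.IsIrreducible] {e : ℕ}
  (hm : ∀ l : L, σ.character (l : K) = (e : ℂ) * ρ.character l)

include haL hfix hcop hab in
/-- A character trivial on `L` fixed by the operators is trivial. -/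
theorem hom_eq_one {b : K →* ℂˣ} (hb : ∀ l ∈ L, b l = 1) (hinv : ∀ s k, b (a s k) = b k) :
    b = 1 := by
  haveI := Fintype.ofFinite S
  letI : CommGroup (K ⧸ L) :=
    { (inferInstance : Group (K ⧸ L)) with
      mul_comm := fun x y => by
        induction x using QuotientGroup.induction_on with
        | H x =>
        induction y using QuotientGroup.induction_on with
        | H y =>
        rw [← commutatorElement_eq_one_iff_mul_comm, ← QuotientGroup.mk'_apply,
          ← QuotientGroup.mk'_apply, ← map_commutatorElement, QuotientGroup.mk'_apply,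
          QuotientGroup.eq_one_iff]
        exact hab x y }
  refine MonoidHom.ext fun k => ?_
  obtain ⟨p, hp⟩ := QuotientGroup.mk_surjective (∏ s : S, ((a s k : K) : K ⧸ L))
  have hpL : p ∈ L := by
    refine hfix p fun t => ?_
    rw [← QuotientGroup.eq_one_iff, QuotientGroup.mk_mul, QuotientGroup.mk_inv, mul_inv_eq_one]
    have h1 : ((a t p : K) : K ⧸ L)
        = QuotientGroup.map L L (a t).toMonoidHom (fun l hl => haL t l hl) (p : K ⧸ L) := rfl
    rw [h1, hp, map_prod]
    refine Fintype.prod_equiv (Equiv.mulLeft t) _ _ fun s => ?_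
    simp [QuotientGroup.map_mk, map_mul]
  let bq : K ⧸ L →* ℂˣ := QuotientGroup.lift L b fun l hl => MonoidHom.mem_ker.2 (hb l hl)
  have h2 : b k ^ Nat.card S = 1 := by
    have h3 := congrArg bq hp
    rw [map_prod] at h3
    simp only [bq, QuotientGroup.lift_mk, hinv] at h3
    rw [hb p hpL, Finset.prod_const, Finset.card_univ, ← Nat.card_eq_fintype_card] at h3
    exact h3.symm
  have h3 : b k ^ Nat.card K = 1 := by rw [← map_pow, pow_card_eq_one', map_one]
  have h4 := pow_gcd_eq_one.2 ⟨h2, h3⟩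
  rwa [hcop, pow_one] at h4

/-- The central subgroup of scalars. -/
noncomputable def Zs : Subgroup (Eg σ L hodd) :=
  (scal (U := U)).range.comap (Eg σ L hodd).subtype

theorem zs_central : Zs σ L hodd ≤ Subgroup.center (Eg σ L hodd) := by
  intro z hz
  obtain ⟨c, hc⟩ := hz
  refine Subgroup.mem_center_iff.2 fun g => Subtype.ext ?_
  show (g : (Module.End ℂ U)ˣ) * z = z * g
  rw [show (z : (Module.End ℂ U)ˣ) = scal c from hc.symm]
  exact (scal_comm c _).eq.symm

theorem zs_comm (x y : Eg σ L hodd) : ⁅x, y⁆ ∈ Zs σ L hodd := by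
  obtain ⟨a, -, ha⟩ := x.2.2
  obtain ⟨b, -, hb⟩ := y.2.2
  obtain ⟨c, hc⟩ := commutator_scal σ ha hb
  exact ⟨c, by simpa [commutatorElement_def] using hc.symm⟩

theorem eg_exp (x : Eg σ L hodd) : x ^ Nat.card K = 1 := Subtype.ext (by simpa using x.2.1)

include haL hσ hfix hcop hm hab hodd in
/-- The involution, and what is used of it. -/
theorem exists_involution : ∃ J : Module.End ℂ U, J * J = 1 ∧ (∀ l ∈ L, Commute J (σ l)) ∧
    ∀ (f : MulAut K) (A : (Module.End ℂ U)ˣ), (∀ s k, f (a s k) = a s (f k)) →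
      (∀ l ∈ L, f l ∈ L) → Twines σ f A → Commute J (A : Module.End ℂ U) ∧
        ∀ n : ℕ, Odd n → f ^ n = 1 →
          ∑ l : L, LinearMap.trace ℂ U ((A : Module.End ℂ U) * J * σ (l : K))
              * LinearMap.trace ℂ U (σ (l : K)⁻¹ * (J * ↑A⁻¹)) = (Nat.card L : ℂ) := by
  haveI := IrrTools.apply_ne_zero_of_isIrreducible σ
  haveI := finite_Eg σ L hodd
  haveI := Fintype.ofFinite (Eg σ L hodd)
  haveI := finite_hom (K := K)
  haveI := Fintype.ofFinite (K →* ℂˣ)
  have hd : (finrank ℂ U : ℂ) ≠ 0 := finrank_ne_zero σ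
  -- the operators
  have hA : ∀ s, ∃ A, Twines σ (a s) A := fun s =>
    exists_unit_of_character_eq σ (σ.comp (a s).toMonoidHom) (funext fun k => hσ s k)
  choose As hAs using hA
  let φ : S →* MulAut (Eg σ L hodd) :=
    MonoidHom.mk' (fun s => conjE L hodd (haL s) (hAs s)) fun s t => MulEquiv.ext fun u =>
      Subtype.ext (by
        rw [MulAut.mul_apply, conjE_val, conjE_val, conjE_val,
          conj_eq (A := As s * As t) (B := As (s * t))
            (by rw [map_mul]; exact twines_mul (hAs s) (hAs t)) (hAs _)]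
        simp [mul_assoc])
  have hφv : ∀ s u, ((φ s u : Eg σ L hodd) : (Module.End ℂ U)ˣ) = As s * u * (As s)⁻¹ :=
    fun _ _ => rfl
  have hφ : ∀ s, ∀ z ∈ Zs σ L hodd, φ s z = z := fun s z hz => Subtype.ext (by
    obtain ⟨c, hc⟩ := hz
    rw [hφv, show (z : (Module.End ℂ U)ˣ) = scal c from hc.symm, ← (scal_comm c _).eq,
      mul_inv_cancel_right])
  choose pa hpaL hpa using fun u : Eg σ L hodd => u.2.2
  have hfx : ∀ x, (∀ s, φ s x = x) → x ∈ Zs σ L hodd := by
    intro x hx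
    have h1 : pa x = 1 := hom_eq_one L hab a haL hfix hcop (hpaL x) fun s k => by
      have h2 := pc_conj (hAs s) (hpa x)
      rw [← Units.val_mul, ← Units.val_mul, ← hφv, hx s] at h2
      conv_rhs => rw [← (a s).symm_apply_apply k]
      exact DFunLike.congr_fun (pc_unit_eq σ (hpa x) h2) (a s k)
    have h3 := hpa x
    rw [h1] at h3
    obtain ⟨c, hc⟩ := pc_one_eq σ h3
    have hc0 : c ≠ 0 := fun h => (x : (Module.End ℂ U)ˣ).ne_zero (by rw [hc, h, zero_smul])
    exact ⟨Units.mk0 c hc0, Units.ext (by rw [scal_val, Units.val_mk0]; exact hc.symm)⟩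
  choose ι₀ hι₀ using fun z : Zs σ L hodd => z.2
  let ι : Zs σ L hodd →* ℂˣ := MonoidHom.mk' ι₀ fun z w => scal_injective (U := U) (by
    rw [map_mul, hι₀, hι₀, hι₀]; rfl)
  obtain ⟨ℓ, hℓb, hℓι, hℓS⟩ := exists_form (zs_central σ L hodd) (zs_comm σ L hodd) hodd
    (eg_exp σ L hodd) φ hφ hcop ι
  set k₀ := (Nat.card K + 1) / 2
  have hℓ1 : ℓ 1 = 1 := by
    have h := hℓb 1 1
    rwa [bop, one_mul, one_mul, commutatorElement_self, one_pow, right_eq_mul] at h
  have hℓpow : ∀ u (n : ℕ), ℓ (u ^ n) = ℓ u ^ n := fun u n => by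
    induction n with
    | zero => simp [hℓ1]
    | succ n ih =>
      rw [pow_succ (ℓ u), ← ih, ← hℓb, bop,
        commutatorElement_eq_one_iff_mul_comm.2 (Commute.self_pow u n).eq, one_pow, mul_one,
        pow_succ]
  have hℓinv : ∀ u, ℓ u = 1 → ℓ u⁻¹ = 1 := fun u hu => by
    have h := hℓb u⁻¹ u
    have h2 : ⁅u, u⁻¹⁆ = (1 : Eg σ L hodd) :=
      commutatorElement_eq_one_iff_mul_comm.2 (by simp)
    rwa [bop, h2, one_pow, mul_one, inv_mul_cancel, hℓ1, hu, mul_one, eq_comm] at h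
  have hinj : ∀ u w, ℓ u = 1 → ℓ w = 1 → pa u = pa w → u = w := by
    intro u w hu hw h
    have h1 := pc_mul σ (hpa w) (pc_inv σ (hpa u))
    rw [h, show pa w * (pa w)⁻¹ = 1 from MonoidHom.ext fun k => by simp, ← Units.val_mul] at h1
    obtain ⟨c, hc⟩ := pc_one_eq σ h1
    have hc0 : c ≠ 0 := fun h0 =>
      ((w : (Module.End ℂ U)ˣ) * (u : (Module.End ℂ U)ˣ)⁻¹).ne_zero (by rw [hc, h0, zero_smul])
    have hz : w * u⁻¹ ∈ Zs σ L hodd :=
      ⟨Units.mk0 c hc0, Units.ext (by rw [scal_val, Units.val_mk0]; exact hc.symm)⟩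
    have h2 := hℓb (w * u⁻¹) u
    rw [bop, commutatorElement_eq_one_iff_mul_comm.2
      (Subgroup.mem_center_iff.1 (zs_central σ L hodd hz) u), one_pow, mul_one,
      inv_mul_cancel_right, hu, hw, mul_one] at h2
    have h3 : ι ⟨_, hz⟩ = 1 := by rw [← hℓι]; exact h2.symm
    have h4 : (w * u⁻¹ : Eg σ L hodd) = 1 := Subtype.ext (by
      rw [show ((w * u⁻¹ : Eg σ L hodd) : (Module.End ℂ U)ˣ) = scal (ι ⟨_, hz⟩) from
        (hι₀ ⟨_, hz⟩).symm, h3, map_one]; rfl)
    exact (mul_inv_eq_one.1 h4).symm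
  set T : Finset (Eg σ L hodd) := Finset.univ.filter fun u => ℓ u = 1 with hTdef
  have hT : ∀ u, u ∈ T ↔ ℓ u = 1 := fun u => by simp [hTdef]
  let tv : Eg σ L hodd → Module.End ℂ U := fun u => ((u : (Module.End ℂ U)ˣ) : Module.End ℂ U)
  have htv : ∀ u v, tv (u * v) = tv u * tv v := fun _ _ => rfl
  have htvcomm : ∀ u, ∀ l ∈ L, Commute (tv u) (σ l) := fun u l hl =>
    pc_commute σ (hpa u) (hpaL u l hl)
  have htr : ∀ t ∈ T, ∀ t' ∈ T, t' ≠ t⁻¹ → LinearMap.trace ℂ U (tv t * tv t') = 0 := by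
    intro t ht t' ht' hne
    refine pc_trace σ (pc_mul σ (hpa t) (hpa t')) fun h => hne ?_
    refine hinj _ _ ((hT _).1 ht') (hℓinv _ ((hT _).1 ht)) ?_
    rw [pc_unit_eq σ (u := ((t⁻¹ : Eg σ L hodd) : (Module.End ℂ U)ˣ)) (hpa t⁻¹)
      (pc_inv σ (hpa t))]
    exact MonoidHom.ext fun k => by
      rw [MonoidHom.inv_apply]
      exact eq_inv_of_mul_eq_one_right (DFunLike.congr_fun h k)
  -- the expansion of the commutant
  have hspan : ∀ X : Module.End ℂ U, (∀ l ∈ L, Commute X (σ l)) →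
      X ∈ Submodule.span ℂ (tv '' (T : Set (Eg σ L hodd))) := by
    intro X hX
    set Λ : Finset (K →* ℂˣ) := Finset.univ.filter fun b => ∀ l ∈ L, b l = 1 with hΛdef
    have horth : ∀ k, ∑ b ∈ Λ, ((b k : ℂˣ) : ℂ)⁻¹ = if k ∈ L then (Λ.card : ℂ) else 0 := by
      intro k
      split_ifs with hk
      · rw [Finset.card_eq_sum_ones, Nat.cast_sum, Nat.cast_one]
        refine Finset.sum_congr rfl fun b hb => ?_
        rw [(Finset.mem_filter.1 hb).2 k hk, Units.val_one, inv_one]
      · obtain ⟨b₀, hb₀L, hb₀⟩ := exists_hom_ne_one L hab hk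
        have he : ∑ b ∈ Λ, ((b k : ℂˣ) : ℂ)⁻¹
            = ((b₀ k : ℂˣ) : ℂ)⁻¹ * ∑ b ∈ Λ, ((b k : ℂˣ) : ℂ)⁻¹ := by
          rw [Finset.mul_sum]
          refine Finset.sum_bij' (fun b _ => b₀⁻¹ * b) (fun b _ => b₀ * b) ?_ ?_ ?_ ?_ ?_
          · intro b hb
            simp only [hΛdef, Finset.mem_filter, Finset.mem_univ, true_and] at hb ⊢
            exact fun l hl => by simp [hb l hl, hb₀L l hl]
          · intro b hb
            simp only [hΛdef, Finset.mem_filter, Finset.mem_univ, true_and] at hb ⊢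
            exact fun l hl => by simp [hb l hl, hb₀L l hl]
          · intro b hb; exact MonoidHom.ext fun x => by simp
          · intro b hb; exact MonoidHom.ext fun x => by simp
          · intro b hb; simp [mul_comm]
        have hne : ((b₀ k : ℂˣ) : ℂ)⁻¹ ≠ 1 := by
          rw [ne_eq, inv_eq_one, Units.val_eq_one]; exact hb₀
        by_contra h0
        exact hne (mul_right_cancel₀ h0 (by rw [← he, one_mul]))
    let Q : (K →* ℂˣ) → Module.End ℂ U := fun b =>
      ∑ k : K, ((b k : ℂˣ) : ℂ)⁻¹ • (σ k * X * σ k⁻¹)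
    have hQpc : ∀ b, Pc σ b (Q b) := by
      intro b j
      simp only [Q, Finset.mul_sum, Finset.sum_mul, Finset.smul_sum]
      refine Fintype.sum_equiv (Equiv.mulLeft j) _ _ fun k => ?_
      simp only [Equiv.coe_mulLeft, mul_smul_comm, smul_mul_assoc, smul_smul, mul_inv_rev,
        map_mul, mul_assoc, ← map_mul σ j⁻¹ j, inv_mul_cancel, map_one, mul_one, Units.val_mul]
      congr 1
      field_simp
    have hQsum : ∑ b ∈ Λ, Q b = ((Λ.card : ℂ) * (Nat.card L : ℂ)) • X := by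
      simp only [Q]
      rw [Finset.sum_comm]
      simp only [← Finset.sum_smul, horth, ite_smul, zero_smul]
      rw [← Finset.sum_filter]
      rw [Finset.sum_congr rfl (g := fun _ => (Λ.card : ℂ) • X) fun k hk => by
        rw [← (hX k (Finset.mem_filter.1 hk).2).eq, mul_assoc, ← map_mul, mul_inv_cancel, map_one,
          mul_one]]
      rw [Finset.sum_const, ← Nat.cast_smul_eq_nsmul ℂ, smul_smul, mul_comm]
      congr 2
      rw [Nat.card_eq_fintype_card, Fintype.card_subtype]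
    have hne : ((Λ.card : ℂ) * (Nat.card L : ℂ)) ≠ 0 := by
      refine mul_ne_zero (Nat.cast_ne_zero.2 (Finset.card_ne_zero.2 ⟨1, ?_⟩))
        (Nat.cast_ne_zero.2 Nat.card_pos.ne')
      simp [hΛdef]
    rw [← inv_smul_smul₀ hne X, ← hQsum]
    refine Submodule.smul_mem _ _ (Submodule.sum_mem _ fun b hb => ?_)
    rcases eq_or_ne (Q b) 0 with h0 | h0
    · rw [h0]; exact Submodule.zero_mem _
    obtain ⟨u, hu, c, hc, -⟩ := exists_mem_Eg σ L hodd (Finset.mem_filter.1 hb).2 (hQpc b) h0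
    set u' : Eg σ L hodd := ⟨u, hu⟩
    have hN : (ℓ u')⁻¹ ^ Nat.card K = 1 := by
      rw [inv_pow, ← hℓpow, eg_exp σ L hodd, hℓ1, inv_one]
    let z : Eg σ L hodd := ⟨scal (U := U) (ℓ u')⁻¹, ⟨by rw [← map_pow, hN, map_one], 1,
      fun _ _ => rfl, fun k => by rw [scal_val]; simp⟩⟩
    have hz : z ∈ Zs σ L hodd := ⟨_, rfl⟩
    have hzl : ℓ z = (ℓ u')⁻¹ :=
      (hℓι ⟨z, hz⟩).trans (scal_injective (U := U) (hι₀ ⟨z, hz⟩))
    have ht : z * u' ∈ T := by
      rw [hT]
      have h := hℓb z u'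
      rw [bop, commutatorElement_eq_one_iff_mul_comm.2
        (Subgroup.mem_center_iff.1 (zs_central σ L hodd hz) u'), one_pow, mul_one, hzl,
        inv_mul_cancel] at h
      exact h
    have he : tv (z * u') = (((ℓ u')⁻¹ : ℂˣ) : ℂ) • (u : Module.End ℂ U) := by
      show ((scal (U := U) (ℓ u')⁻¹ * u : (Module.End ℂ U)ˣ) : Module.End ℂ U) = _
      rw [Units.val_mul, scal_val, smul_mul_assoc, one_mul]
    rw [hc, ← inv_smul_smul₀ (Units.ne_zero (ℓ u')⁻¹) (u : Module.End ℂ U), ← he, smul_smul]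
    exact Submodule.smul_mem _ _ (Submodule.subset_span ⟨_, ht, rfl⟩)
  have hexpand : ∀ X : Module.End ℂ U, (∀ l ∈ L, Commute X (σ l)) →
      (finrank ℂ U : ℂ) • X = ∑ t ∈ T, LinearMap.trace ℂ U (tv t⁻¹ * X) • tv t := by
    intro X hX
    have hX' := hspan X hX
    clear hX
    induction hX' using Submodule.span_induction with
    | mem x hx =>
      obtain ⟨t₀, ht₀, rfl⟩ := hx
      rw [Finset.sum_eq_single_of_mem t₀ ht₀ fun t ht hne => by
        rw [htr _ ((hT _).2 (hℓinv _ ((hT _).1 ht))) t₀ ht₀ (by simpa using hne.symm),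
          zero_smul]]
      rw [← htv, inv_mul_cancel]
      congr 1
      exact (LinearMap.trace_one ℂ U).symm
    | zero => simp
    | add x y hx hy ihx ihy =>
      simp only [mul_add, map_add, add_smul, Finset.sum_add_distrib]
      rw [smul_add, ihx, ihy]
    | smul c x hx ih =>
      simp only [mul_smul_comm, map_smul, smul_assoc]
      rw [smul_comm, ih, Finset.smul_sum]
  have havg : ∀ Y : Module.End ℂ U, (finrank ℂ U : ℂ) • ∑ l : L, σ (l : K) * Y * σ (l : K)⁻¹
      = (Nat.card L : ℂ) • ∑ t ∈ T, LinearMap.trace ℂ U (tv t⁻¹ * Y) • tv t := by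
    intro Y
    rw [hexpand]
    · rw [Finset.smul_sum]
      refine Finset.sum_congr rfl fun t _ => ?_
      rw [smul_smul, Finset.mul_sum, map_sum]
      congr 1
      rw [Nat.card_eq_fintype_card, ← Finset.card_univ, ← nsmul_eq_mul, ← Finset.sum_const]
      refine Finset.sum_congr rfl fun l _ => ?_
      rw [← mul_assoc, ← mul_assoc, (htvcomm t⁻¹ l l.2).eq, LinearMap.trace_mul_comm, ← mul_assoc,
        ← mul_assoc, ← map_mul, inv_mul_cancel, map_one, one_mul]
    · intro j hj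
      show _ * _ = _ * _
      rw [Finset.sum_mul, Finset.mul_sum]
      refine (Fintype.sum_equiv (Equiv.mulLeft (⟨j, hj⟩ : L)) _ _ fun l => ?_).symm
      simp only [Equiv.coe_mulLeft, Subgroup.coe_mul, mul_inv_rev, map_mul, mul_assoc,
        ← map_mul σ j⁻¹ j, inv_mul_cancel, map_one, mul_one]
  -- nondegeneracy
  have hscal : ∀ D : Module.End ℂ U, (∀ l ∈ L, Commute D (σ l)) →
      (∀ t ∈ T, Commute D (tv t)) → ∃ c : ℂ, D = c • 1 := by
    intro D hD hDT
    refine IrrTools.exists_smul_of_commute σ D fun k => Commute.eq ?_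
    set σL : Representation ℂ L U := σ.comp L.subtype with hσL
    have hm' : ∀ l : L, σL.character l = (e : ℂ) * ρ.character l := hm
    have hdW : (finrank ℂ W : ℂ) ≠ 0 := finrank_ne_zero ρ
    have hin : ∀ l : L, (finrank ℂ W : ℂ) • ∑ j : L, σ (j : K) * σ (l : K)⁻¹ * σ (j : K)⁻¹
        = ((Nat.card L : ℂ) * ρ.character l⁻¹) • 1 := by
      intro l
      have h := congrArg (lift ρ σL) (average_eq ρ (ρ l⁻¹))
      simp only [map_smul, map_sum, lift_mul ρ _ hm', lift_sigma ρ _ hm', lift_one ρ _ hm'] at h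
      exact h
    have hout : ∑ l : L, ρ.character l⁻¹ • σ (l : K)
        = ((Nat.card L : ℂ) / finrank ℂ W) • 1 := by
      have h := lift_apply ρ σL 1
      simp only [lift_one ρ _ hm', one_mul] at h
      rw [h, smul_smul, div_mul_div_cancel₀ hdW, div_self (Nat.cast_ne_zero.2 Nat.card_pos.ne'),
        one_smul]
      rfl
    have hkey : ((finrank ℂ W : ℂ) * finrank ℂ W) • ∑ j : L,
        (∑ l : L, σ (l : K) * (σ k * σ (j : K)) * σ (l : K)⁻¹) * σ (j : K)⁻¹
          = ((Nat.card L : ℂ) * Nat.card L) • σ k := by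
      have h1 : ∑ j : L, (∑ l : L, σ (l : K) * (σ k * σ (j : K)) * σ (l : K)⁻¹) * σ (j : K)⁻¹
          = ∑ l : L, σ (l : K) * σ k * ∑ j : L, σ (j : K) * σ (l : K)⁻¹ * σ (j : K)⁻¹ := by
        simp only [Finset.sum_mul, Finset.mul_sum, mul_assoc]
        exact Finset.sum_comm
      rw [h1, ← smul_smul, Finset.smul_sum]
      simp only [← mul_smul_comm, hin, mul_one]
      simp only [mul_smul_comm, mul_one, ← smul_smul, ← Finset.smul_sum, ← smul_mul_assoc]
      simp only [← smul_mul_assoc, ← Finset.sum_mul]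
      rw [← Finset.smul_sum, hout, smul_mul_assoc, smul_mul_assoc, smul_mul_assoc, one_mul,
        smul_smul, smul_smul, smul_smul]
      congr 1
      field_simp
    have hL0 : (Nat.card L : ℂ) ≠ 0 := Nat.cast_ne_zero.2 Nat.card_pos.ne'
    rw [← inv_smul_smul₀ (mul_ne_zero hL0 hL0) (σ k), ← hkey]
    refine ((Commute.sum_right _ _ _ fun j _ => Commute.mul_right ?_ ?_).smul_right _).smul_right _
    · rw [← inv_smul_smul₀ hd (∑ l : L, σ (l : K) * (σ k * σ (j : K)) * σ (l : K)⁻¹), havg]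
      exact ((Commute.sum_right _ _ _ fun t ht => (hDT t ht).smul_right _).smul_right _).smul_right _
    · exact hD _ (inv_mem j.2)
  -- the involution
  have hone : (1 : Eg σ L hodd) ∈ T := (hT 1).2 hℓ1
  have hcard : (T.card : ℂ) ≠ 0 := Nat.cast_ne_zero.2 (Finset.card_ne_zero.2 ⟨1, hone⟩)
  set Sm : Module.End ℂ U := ∑ t ∈ T, tv t with hSm
  have hxtx : ∀ x t, ℓ x = 1 → ℓ t = 1 → ℓ (x * t * x) = 1 := by
    intro x t hx ht
    have hc := comm_commute (zs_central σ L hodd) (zs_comm σ L hodd)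
    have h1 := hℓb (bop k₀ x t) x
    have h0 := hℓb x t
    rw [hx, ht, one_mul] at h0
    rw [h0, hx, one_mul] at h1
    have e2 : bop k₀ (bop k₀ x t) x = x * t * x := by
      rw [bop, comm_bop_right hc, commutatorElement_self, one_mul, bop, mul_assoc (x * t),
        ((hc t x x).pow_left k₀).eq, ← mul_assoc (x * t), mul_assoc (x * t * x),
        ← (hc t x _).mul_pow, ← commutatorElement_inv t x, mul_inv_cancel, one_pow, mul_one]
    rwa [e2] at h1
  have hsand : ∀ x ∈ T, tv x * Sm * tv x = Sm := by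
    intro x hx
    rw [hSm, Finset.mul_sum, Finset.sum_mul]
    refine Finset.sum_bij' (fun t _ => x * t * x) (fun t _ => x⁻¹ * t * x⁻¹) ?_ ?_ ?_ ?_ ?_
    · exact fun t ht => (hT _).2 (hxtx _ _ ((hT _).1 hx) ((hT _).1 ht))
    · exact fun t ht => (hT _).2 (hxtx _ _ (hℓinv _ ((hT _).1 hx)) ((hT _).1 ht))
    · intro t ht; group
    · intro t ht; group
    · intro t ht; rw [htv, htv]
  have hflip : ∀ x ∈ T, tv x * Sm = Sm * tv x⁻¹ := by
    intro x hx
    conv_rhs => rw [← hsand x hx]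
    rw [mul_assoc, ← htv, mul_inv_cancel]
    exact (mul_one _).symm
  have hSL : ∀ l ∈ L, Commute Sm (σ l) := fun l hl =>
    Commute.sum_left _ _ _ fun t _ => htvcomm t l hl
  have hsq : Sm * Sm = (T.card : ℂ) • 1 := by
    obtain ⟨c, hc⟩ := hscal (Sm * Sm) (fun l hl => (hSL l hl).mul_left (hSL l hl)) fun t ht => by
      show _ = _
      rw [← mul_assoc, hflip t ht, mul_assoc Sm (tv t⁻¹),
        hflip t⁻¹ ((hT _).2 (hℓinv _ ((hT _).1 ht))), inv_inv, mul_assoc]
    have htrace : LinearMap.trace ℂ U (Sm * Sm) = (T.card : ℂ) * (finrank ℂ U : ℂ) := by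
      rw [hSm, Finset.sum_mul, map_sum, ← nsmul_eq_mul, ← Finset.sum_const]
      refine Finset.sum_congr rfl fun t ht => ?_
      rw [Finset.mul_sum, map_sum, Finset.sum_eq_single_of_mem t⁻¹
        ((hT _).2 (hℓinv _ ((hT _).1 ht))) fun t' ht' hne => htr t ht t' ht' hne, ← htv,
        mul_inv_cancel]
      exact LinearMap.trace_one ℂ U
    rw [hc, map_smul, LinearMap.trace_one, smul_eq_mul] at htrace
    rw [hc, mul_right_cancel₀ hd htrace]
  obtain ⟨c, hc⟩ := IsAlgClosed.exists_pow_nat_eq (T.card : ℂ)⁻¹ (show 0 < 2 by norm_num)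
  refine ⟨c • Sm, ?_, fun l hl => (hSL l hl).smul_left c, ?_⟩
  · rw [smul_mul_smul_comm, hsq, smul_smul, ← pow_two, hc, inv_mul_cancel₀ hcard, one_smul]
  intro f A hfa hfL hA
  set ψ := conjE L hodd hfL hA with hψ
  have hψc : ∀ s u, ψ (φ s u) = φ s (ψ u) := by
    intro s u
    refine Subtype.ext ?_
    rw [hψ, conjE_val, hφv, hφv, conjE_val]
    have h := conj_eq (f := a s * f) (A := As s * A) (B := A * As s) (twines_mul (hAs s) hA)
      (fun k => by
        rw [Units.val_mul, mul_assoc, hAs s, ← mul_assoc, hA, mul_assoc, hfa,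
          MulAut.mul_apply]) u
    rw [mul_inv_rev, mul_inv_rev] at h
    simpa [mul_assoc] using h
  have hℓψ : (fun u => ℓ (ψ u)) = ℓ :=
    form_unique (zs_central σ L hodd) (zs_comm σ L hodd) hodd (eg_exp σ L hodd) φ hφ hcop hfx
      (fun x y => by simp only [map_bop]; exact hℓb _ _) hℓb
      (fun z hz => by
        show ℓ (ψ z) = ℓ z
        congr 1
        obtain ⟨c, hc⟩ := hz
        refine Subtype.ext ?_
        rw [hψ, conjE_val, show (z : (Module.End ℂ U)ˣ) = scal c from hc.symm,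
          ← (scal_comm c _).eq, mul_inv_cancel_right])
      (fun s x => by simp only [hψc, hℓS]) hℓS
  have hTψ : ∀ u, ψ u ∈ T ↔ u ∈ T := fun u => by
    rw [hT, hT, show ℓ (ψ u) = ℓ u from congrFun hℓψ u]
  have hψv : ∀ u, (A : Module.End ℂ U) * tv u = tv (ψ u) * A := fun u => by
    show _ = ((A * u * A⁻¹ : (Module.End ℂ U)ˣ) : Module.End ℂ U) * A
    rw [← Units.val_mul, ← Units.val_mul, inv_mul_cancel_right]
  have hcomm : Commute Sm (A : Module.End ℂ U) := by
    show _ = _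
    rw [hSm, Finset.mul_sum, Finset.sum_mul]
    refine Finset.sum_bij' (fun t _ => ψ.symm t) (fun t _ => ψ t) ?_ ?_ ?_ ?_ ?_
    · exact fun t ht => (hTψ _).1 (by rwa [MulEquiv.apply_symm_apply])
    · exact fun t ht => (hTψ t).2 ht
    · intro t ht; simp
    · intro t ht; simp
    · intro t ht; rw [hψv, MulEquiv.apply_symm_apply]
  refine ⟨hcomm.smul_left c, fun n hn hfn => ?_⟩
  set M : Module.End ℂ U := (A : Module.End ℂ U) * (c • Sm) with hM
  set M' : Module.End ℂ U := (c • Sm) * ↑A⁻¹ with hM'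
  have hJJ : (c • Sm) * (c • Sm) = 1 := by
    rw [smul_mul_smul_comm, hsq, smul_smul, ← pow_two, hc, inv_mul_cancel₀ hcard, one_smul]
  have hstep : ∀ t ∈ T, LinearMap.trace ℂ U (tv t⁻¹ * M * tv t * M')
      = if t = 1 then (finrank ℂ U : ℂ) else 0 := by
    intro t ht
    have e1 : M * tv t * M' = tv (ψ t⁻¹) := by
      have h3 : (c • Sm) * tv t * (c • Sm) = tv t⁻¹ := by
        have h4 := hflip t⁻¹ ((hT _).2 (hℓinv _ ((hT _).1 ht)))
        rw [inv_inv] at h4
        rw [smul_mul_assoc, ← h4, ← mul_smul_comm, mul_assoc, hJJ, mul_one]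
      rw [hM, hM', show (A : Module.End ℂ U) * (c • Sm) * tv t * ((c • Sm) * ↑A⁻¹)
          = (A : Module.End ℂ U) * ((c • Sm) * tv t * (c • Sm)) * ↑A⁻¹ by simp only [mul_assoc],
        h3, hψv, Units.mul_inv_cancel_right]
    rw [mul_assoc, mul_assoc, ← mul_assoc M, e1]
    split_ifs with h1
    · subst h1
      rw [inv_one, map_one, show tv 1 = 1 from rfl, one_mul, LinearMap.trace_one]
    refine htr _ ((hT _).2 (hℓinv _ ((hT _).1 ht))) _
      ((hTψ _).2 ((hT _).2 (hℓinv _ ((hT _).1 ht)))) fun h2 => h1 ?_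
    rw [inv_inv] at h2
    have h5 : ∀ k, pa t⁻¹ (f.symm k) = pa t k := fun k => by
      have h6 := pc_conj hA (hpa t⁻¹)
      rw [← Units.val_mul, ← Units.val_mul, ← conjE_val L hodd hfL hA, ← hψ, h2] at h6
      exact DFunLike.congr_fun (pc_unit_eq σ h6 (hpa t)) k
    have h7 : pa t⁻¹ = (pa t)⁻¹ :=
      pc_unit_eq σ (u := ((t⁻¹ : Eg σ L hodd) : (Module.End ℂ U)ˣ)) (hpa t⁻¹) (pc_inv σ (hpa t))
    have h8 : ∀ (i : ℕ) (k : K), pa t ((f ^ i) k) = pa t k ^ ((-1 : ℤ) ^ i) := by
      intro i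
      induction i with
      | zero => simp
      | succ i ih =>
        intro k
        have h9 := h5 ((f ^ (i + 1)) k)
        rw [pow_succ', MulAut.mul_apply, f.symm_apply_apply, h7, MonoidHom.inv_apply, ih] at h9
        rw [pow_succ', MulAut.mul_apply, ← h9, pow_succ, mul_neg_one, zpow_neg]
    refine hinj t 1 ((hT _).1 ht) hℓ1 (MonoidHom.ext fun k => ?_)
    have h10 := h8 n k
    rw [hfn, MulAut.one_apply, hn.neg_one_pow, zpow_neg_one] at h10
    have h11 : pa t k ^ 2 = 1 := by rw [pow_two]; exact eq_inv_iff_mul_eq_one.1 h10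
    have h12 : pa t k ^ Nat.card K = 1 := by rw [← map_pow, pow_card_eq_one', map_one]
    have h13 := pow_gcd_eq_one.2 ⟨h11, h12⟩
    rw [hodd.coprime_two_left, pow_one] at h13
    rw [h13]
    exact (DFunLike.congr_fun (pc_unit_eq σ (u := ((1 : Eg σ L hodd) : (Module.End ℂ U)ˣ))
      (hpa 1) (pc_one σ)) k).symm
  have hK0 : (Nat.card K : ℂ) ≠ 0 := card_ne_zero'
  have htt : ∀ B C : Module.End ℂ U, LinearMap.trace ℂ U B * LinearMap.trace ℂ U C
      = (finrank ℂ U : ℂ) / Nat.card K * ∑ k : K, LinearMap.trace ℂ U (B * (σ k * C * σ k⁻¹)) := by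
    intro B C
    have h := congrArg (fun Z => LinearMap.trace ℂ U (B * Z)) (average_eq σ C)
    simp only [mul_smul_comm, Finset.mul_sum, map_smul, map_sum, smul_eq_mul, mul_one] at h
    rw [div_mul_eq_mul_div, Finset.mul_sum, h]
    field_simp
  calc ∑ l : L, LinearMap.trace ℂ U (M * σ (l : K)) * LinearMap.trace ℂ U (σ (l : K)⁻¹ * M')
      = ∑ l : L, (finrank ℂ U : ℂ) / Nat.card K * ∑ k : K,
          LinearMap.trace ℂ U (M * (σ (l : K) * σ k * σ (l : K)⁻¹) * (M' * σ k⁻¹)) := by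
        refine Finset.sum_congr rfl fun l _ => ?_
        rw [htt]; simp only [mul_assoc]
    _ = 1 / (Nat.card K : ℂ) * ∑ k : K, LinearMap.trace ℂ U (M *
          ((finrank ℂ U : ℂ) • ∑ l : L, σ (l : K) * σ k * σ (l : K)⁻¹) * (M' * σ k⁻¹)) := by
        rw [← Finset.mul_sum, Finset.sum_comm, Finset.mul_sum, Finset.mul_sum]
        refine Finset.sum_congr rfl fun k _ => ?_
        rw [mul_smul_comm, smul_mul_assoc, map_smul, smul_eq_mul]
        simp only [Finset.mul_sum, Finset.sum_mul, map_sum]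
        refine Finset.sum_congr rfl fun l _ => ?_
        ring
    _ = 1 / (Nat.card K : ℂ) * ((Nat.card L : ℂ) * ∑ t ∈ T, LinearMap.trace ℂ U
          ((M * tv t * M') * ∑ k : K, LinearMap.trace ℂ U (tv t⁻¹ * σ k) • σ k⁻¹)) := by
        simp only [havg]
        simp only [mul_smul_comm, smul_mul_assoc, map_smul, smul_eq_mul, ← Finset.mul_sum]
        congr 2
        simp only [Finset.mul_sum, Finset.sum_mul, mul_smul_comm, smul_mul_assoc, map_sum,
          map_smul, smul_eq_mul, mul_assoc]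
        exact Finset.sum_comm
    _ = 1 / (Nat.card K : ℂ) * ((Nat.card L : ℂ) * ∑ t ∈ T,
          (Nat.card K : ℂ) / (finrank ℂ U : ℂ)
            * (if t = 1 then (finrank ℂ U : ℂ) else 0)) := by
        congr 2
        refine Finset.sum_congr rfl fun t ht => ?_
        have h := schur_sum σ (tv t⁻¹)
        have h14 : ∑ k : K, LinearMap.trace ℂ U (tv t⁻¹ * σ k) • σ k⁻¹
            = ((Nat.card K : ℂ) / (finrank ℂ U : ℂ)) • tv t⁻¹ := by
          rw [div_eq_inv_mul, ← smul_smul, ← h, inv_smul_smul₀ hd]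
          refine Fintype.sum_equiv (Equiv.inv K) _ _ fun k => ?_
          simp
        rw [h14, mul_smul_comm, map_smul, smul_eq_mul, LinearMap.trace_mul_comm, ← hstep t ht]
        simp only [mul_assoc]
    _ = (Nat.card L : ℂ) := by
        simp only [mul_ite, mul_zero, Finset.sum_ite_eq', hone, if_true]
        field_simp

end Main

end CfsgLib.DegreeTools.OddSection
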