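import Mathlib
import Cfsg.Agent.Lib.CharDeep.Implementers
import Cfsg.Agent.Lib.DegreeTools.OddSection.Torsor

/-!
# The graded commutant of a normal subgroup inside an irreducible representation

For an irreducible representation `σ` of a group `K` of odd order and a normal subgroup `L` with
abelian quotient, the commutant of `σ(L)` is graded by linear characters of `K / L`.
-/

set_option autoImplicit false
set_option linter.style.haveILetI false
set_option linter.unusedSectionVars false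

open scoped Classical
open Module

namespace CfsgLib.DegreeTools.OddSection

open CfsgLib.CharDeep CfsgLib.CharDeep.HomogLift CfsgLib.CharDeep.Implementers

variable {K : Type*} [Group K] [Fintype K] {U : Type*} [AddCommGroup U] [Module ℂ U]
  [FiniteDimensional ℂ U] (σ : Representation ℂ K U) (L : Subgroup K)

/-- The piece of the grading at a linear character. -/
def Pc (lam : K →* ℂˣ) (X : Module.End ℂ U) : Prop :=
  ∀ k, σ k * X = (lam k : ℂ) • (X * σ k)

theorem pc_one : Pc σ 1 (1 : Module.End ℂ U) := fun k => by simp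

theorem pc_mul {a b : K →* ℂˣ} {X Y : Module.End ℂ U} (hX : Pc σ a X) (hY : Pc σ b Y) :
    Pc σ (a * b) (X * Y) := fun k => by
  rw [← mul_assoc, hX k, smul_mul_assoc, mul_assoc, hY k, mul_smul_comm, smul_smul, ← mul_assoc,
    MonoidHom.mul_apply, Units.val_mul]

theorem pc_smul {a : K →* ℂˣ} {X : Module.End ℂ U} (hX : Pc σ a X) (c : ℂ) :
    Pc σ a (c • X) := fun k => by
  rw [mul_smul_comm, hX k, smul_mul_assoc, smul_comm]

theorem pc_inv {a : K →* ℂˣ} {u : (Module.End ℂ U)ˣ} (hu : Pc σ a u) :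
    Pc σ a⁻¹ ((u⁻¹ : (Module.End ℂ U)ˣ) : Module.End ℂ U) := fun k => by
  have h := congrArg (fun Z => ((u⁻¹ : (Module.End ℂ U)ˣ) : Module.End ℂ U) * Z * (u⁻¹ : (Module.End ℂ U)ˣ)) (hu k)
  simp only [mul_smul_comm, smul_mul_assoc, mul_assoc, Units.inv_mul_cancel_left, Units.mul_inv,
    mul_one] at h
  rw [h, MonoidHom.inv_apply, smul_smul, ← Units.val_mul, inv_mul_cancel, Units.val_one, one_smul]

theorem pc_pow {a : K →* ℂˣ} {X : Module.End ℂ U} (hX : Pc σ a X) (n : ℕ) :
    Pc σ (a ^ n) (X ^ n) := by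
  intro k
  rw [MonoidHom.pow_apply, Units.val_pow_eq_pow_val]
  induction n with
  | zero => simp
  | succ n ih =>
    rw [pow_succ X, ← mul_assoc, ih, smul_mul_assoc, mul_assoc, hX k, mul_smul_comm, smul_smul,
      ← mul_assoc, ← pow_succ]

theorem pc_commute {a : K →* ℂˣ} {X : Module.End ℂ U} (hX : Pc σ a X) {k : K} (hk : a k = 1) :
    Commute X (σ k) := by
  have := hX k
  rw [hk, Units.val_one, one_smul] at this
  exact this.symm

theorem pc_trace {a : K →* ℂˣ} {X : Module.End ℂ U} (hX : Pc σ a X) (ha : a ≠ 1) :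
    LinearMap.trace ℂ U X = 0 := by
  obtain ⟨k, hk⟩ : ∃ k, a k ≠ 1 := by
    by_contra h; push Not at h; exact ha (MonoidHom.ext h)
  have h : LinearMap.trace ℂ U X = (a k : ℂ) * LinearMap.trace ℂ U X := by
    conv_lhs => rw [show X = σ k⁻¹ * (σ k * X) by
      rw [← mul_assoc, ← map_mul, inv_mul_cancel, map_one, one_mul]]
    rw [hX k, mul_smul_comm, map_smul, smul_eq_mul, LinearMap.trace_mul_comm, mul_assoc,
      ← map_mul, mul_inv_cancel, map_one, mul_one]
  by_contra h0
  exact hk (Units.ext (mul_right_cancel₀ h0 (by rw [← h, Units.val_one, one_mul])).symm)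

theorem pow_card_hom (a : K →* ℂˣ) : a ^ Nat.card K = 1 :=
  MonoidHom.ext fun k => by
    rw [MonoidHom.pow_apply, ← map_pow, pow_card_eq_one', map_one, MonoidHom.one_apply]

variable [σ.IsIrreducible]

theorem pc_one_eq {X : Module.End ℂ U} (hX : Pc σ 1 X) : ∃ c : ℂ, X = c • 1 :=
  IrrTools.exists_smul_of_commute σ X fun k => (pc_commute σ hX (MonoidHom.one_apply k)).eq

theorem pc_unit_eq {a b : K →* ℂˣ} {u : (Module.End ℂ U)ˣ} (ha : Pc σ a u) (hb : Pc σ b u) :
    a = b := by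
  haveI := IrrTools.apply_ne_zero_of_isIrreducible σ
  refine MonoidHom.ext fun k => Units.ext ?_
  have h := (ha k).symm.trans (hb k)
  by_contra hne
  have h0 : ((a k : ℂ) - (b k : ℂ)) • ((u : Module.End ℂ U) * σ k) = 0 := by
    rw [sub_smul, h, sub_self]
  have h1 := congrArg (fun Z => ((u⁻¹ : (Module.End ℂ U)ˣ) : Module.End ℂ U) * Z * σ k⁻¹)
    ((smul_eq_zero.1 h0).resolve_left (sub_ne_zero.2 hne))
  rw [mul_zero, zero_mul] at h1
  simp only [Units.inv_mul_cancel_left, ← map_mul, mul_inv_cancel, map_one] at h1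
  exact one_ne_zero h1

/-- A nonzero member of a piece is invertible. -/
theorem pc_isUnit {a : K →* ℂˣ} {X : Module.End ℂ U} (hX : Pc σ a X) (h0 : X ≠ 0) :
    IsUnit X := by
  rw [LinearMap.isUnit_iff_ker_eq_bot]
  refine (IrrTools.eq_bot_or_top_of_invariant σ _ fun k u hu => ?_).resolve_right fun h =>
    h0 (LinearMap.ker_eq_top.1 h)
  rw [LinearMap.mem_ker] at hu ⊢
  have h := LinearMap.congr_fun (hX k) u
  rw [Module.End.mul_apply, LinearMap.smul_apply, Module.End.mul_apply, hu, map_zero, eq_comm,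
    smul_eq_zero] at h
  exact h.resolve_left (a k).ne_zero

/-- The normalised units of the pieces at characters trivial on `L`. -/
def InE (u : (Module.End ℂ U)ˣ) : Prop :=
  u ^ Nat.card K = 1 ∧ ∃ a : K →* ℂˣ, (∀ l ∈ L, a l = 1) ∧ Pc σ a u

theorem commutator_scal {a b : K →* ℂˣ} {u w : (Module.End ℂ U)ˣ} (hu : Pc σ a u)
    (hw : Pc σ b w) : ∃ c : ℂˣ, u * w * u⁻¹ * w⁻¹ = scal c := by
  haveI := IrrTools.apply_ne_zero_of_isIrreducible σ
  have h := pc_mul σ (pc_mul σ (pc_mul σ hu hw) (pc_inv σ hu)) (pc_inv σ hw)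
  rw [show a * b * a⁻¹ * b⁻¹ = 1 from MonoidHom.ext fun k => by simp [mul_comm (a k) (b k)],
    ← Units.val_mul, ← Units.val_mul, ← Units.val_mul] at h
  obtain ⟨c, hc⟩ := pc_one_eq σ h
  refine ⟨Units.mk0 c ?_, Units.ext (by rw [scal_val, Units.val_mk0]; exact hc)⟩
  rintro rfl
  exact (u * w * u⁻¹ * w⁻¹).ne_zero (by rw [hc, zero_smul])

theorem pow_mul_scal {u w : (Module.End ℂ U)ˣ} {c : ℂˣ} (h : w * u = scal c * (u * w)) :
    ∀ n : ℕ, ∃ j, 2 * j + n = n ^ 2 ∧ (u * w) ^ n = scal (c ^ j) * (u ^ n * w ^ n) := by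
  have hw : ∀ n : ℕ, w ^ n * u = scal (c ^ n) * (u * w ^ n) := by
    intro n
    induction n with
    | zero => simp
    | succ n ih =>
      rw [pow_succ', mul_assoc, ih, ← mul_assoc, ← (scal_comm _ w).eq, mul_assoc,
        ← mul_assoc w, h, ← mul_assoc, ← mul_assoc, ← map_mul, ← pow_succ]
      simp only [mul_assoc]
  intro n
  induction n with
  | zero => exact ⟨0, rfl, by simp⟩
  | succ n ih =>
    obtain ⟨j, hj, hu⟩ := ih
    refine ⟨j + n, by linarith [hj], ?_⟩
    rw [pow_succ, hu, pow_succ u, pow_succ w, mul_assoc, mul_assoc, ← mul_assoc (w ^ n), hw,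
      pow_add c, map_mul]
    rw [mul_assoc (scal (c ^ n)), ← mul_assoc (u ^ n), ← (scal_comm (c ^ n) (u ^ n)).eq]
    simp only [mul_assoc]

theorem inE_mul (hodd : Odd (Nat.card K)) {u w : (Module.End ℂ U)ˣ} (hu : InE σ L u)
    (hw : InE σ L w) : InE σ L (u * w) := by
  haveI := IrrTools.apply_ne_zero_of_isIrreducible σ
  obtain ⟨huN, a, haL, hua⟩ := hu
  obtain ⟨hwN, b, hbL, hwb⟩ := hw
  refine ⟨?_, a * b, fun l hl => by rw [MonoidHom.mul_apply, haL l hl, hbL l hl, one_mul],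
    by rw [Units.val_mul]; exact pc_mul σ hua hwb⟩
  obtain ⟨c, hc⟩ := commutator_scal σ hwb hua
  rw [mul_inv_eq_iff_eq_mul, mul_inv_eq_iff_eq_mul, mul_assoc] at hc
  obtain ⟨t, ht⟩ := hodd
  obtain ⟨j, hj, hpow⟩ := pow_mul_scal hc (Nat.card K)
  have hcN : c ^ Nat.card K = 1 := by
    have hk : ∀ n : ℕ, w ^ n * u = scal (c ^ n) * (u * w ^ n) := by
      intro n
      induction n with
      | zero => simp
      | succ n ih =>
        rw [pow_succ', mul_assoc, ih, ← mul_assoc, ← (scal_comm _ w).eq, mul_assoc,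
          ← mul_assoc w, hc, ← mul_assoc, ← mul_assoc, ← map_mul, ← pow_succ]
        simp only [mul_assoc]
    have h := hk (Nat.card K)
    rw [hwN, one_mul, mul_one] at h
    refine scal_injective (U := U) ?_
    rw [map_one]
    exact (mul_eq_right (b := u)).1 h.symm
  rw [hpow, huN, hwN, mul_one, show j = Nat.card K * t by rw [ht] at hj ⊢; nlinarith,
    pow_mul, hcN, one_pow, map_one, mul_one]

/-- The group of the normalised units. -/
def Eg (hodd : Odd (Nat.card K)) : Subgroup (Module.End ℂ U)ˣ where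
  carrier := {u | InE σ L u}
  one_mem' := ⟨one_pow _, 1, fun _ _ => rfl, by rw [Units.val_one]; exact pc_one σ⟩
  mul_mem' := inE_mul σ L hodd
  inv_mem' := by
    rintro u ⟨huN, a, haL, hua⟩
    exact ⟨by rw [inv_pow, huN, inv_one], a⁻¹,
      fun l hl => by rw [MonoidHom.inv_apply, haL l hl, inv_one], pc_inv σ hua⟩

/-- Every nonzero member of a piece is a multiple of a normalised unit. -/
theorem exists_mem_Eg (hodd : Odd (Nat.card K)) {a : K →* ℂˣ} (haL : ∀ l ∈ L, a l = 1)
    {X : Module.End ℂ U} (hX : Pc σ a X) (h0 : X ≠ 0) :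
    ∃ u ∈ Eg σ L hodd, ∃ c : ℂ, X = c • ((u : Module.End ℂ U)) ∧ Pc σ a u := by
  haveI := IrrTools.apply_ne_zero_of_isIrreducible σ
  obtain ⟨v, rfl⟩ := pc_isUnit σ hX h0
  have h1 := pc_pow σ hX (Nat.card K)
  rw [pow_card_hom] at h1
  obtain ⟨c, hc⟩ := pc_one_eq σ h1
  have hc0 : c ≠ 0 := fun h => (v ^ Nat.card K).ne_zero (by
    rw [Units.val_pow_eq_pow_val, hc, h, zero_smul])
  obtain ⟨z, hz⟩ := IsAlgClosed.exists_pow_nat_eq c⁻¹ (Nat.card_pos (α := K))
  have hz0 : z ≠ 0 := fun h => by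
    rw [h, zero_pow Nat.card_pos.ne', eq_comm, inv_eq_zero] at hz
    exact hc0 hz
  have hv : Pc σ a ((scal (Units.mk0 z hz0) * v : (Module.End ℂ U)ˣ) : Module.End ℂ U) := by
    rw [Units.val_mul, scal_val, smul_mul_assoc, one_mul, Units.val_mk0]
    exact pc_smul σ hX z
  refine ⟨scal (Units.mk0 z hz0) * v, ⟨Units.ext ?_, a, haL, hv⟩, z⁻¹, ?_, hv⟩
  · rw [(scal_comm _ v).mul_pow, Units.val_mul, ← map_pow, scal_val,
      Units.val_pow_eq_pow_val, Units.val_pow_eq_pow_val, Units.val_mk0, hz, hc, smul_mul_assoc,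
      one_mul, smul_smul, inv_mul_cancel₀ hc0, one_smul, Units.val_one]
  · rw [Units.val_mul, scal_val, smul_mul_assoc, one_mul, Units.val_mk0, smul_smul,
      inv_mul_cancel₀ hz0, one_smul]

theorem finite_hom : Finite (K →* ℂˣ) := by
  haveI : NeZero (Nat.card K) := ⟨Nat.card_pos.ne'⟩
  refine Finite.of_injective (fun (a : K →* ℂˣ) k => (⟨a k, ?_⟩ : rootsOfUnity (Nat.card K) ℂ))
    fun a b h => MonoidHom.ext fun k => congrArg Subtype.val (congrFun h k)
  rw [mem_rootsOfUnity, ← map_pow, pow_card_eq_one', map_one]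

theorem finite_Eg (hodd : Odd (Nat.card K)) : Finite (Eg σ L hodd) := by
  haveI := IrrTools.apply_ne_zero_of_isIrreducible σ
  haveI := finite_hom (K := K)
  haveI : NeZero (Nat.card K) := ⟨Nat.card_pos.ne'⟩
  choose a haL ha using fun u : Eg σ L hodd => u.2.2
  have hfib : ∀ u w : Eg σ L hodd, a u = a w →
      ∃ c : rootsOfUnity (Nat.card K) ℂ,
        (w : (Module.End ℂ U)ˣ) = scal (U := U) (c : ℂˣ) * (u : (Module.End ℂ U)ˣ) := by
    intro u w h
    have h1 := pc_mul σ (ha w) (pc_inv σ (ha u))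
    rw [h, show a w * (a w)⁻¹ = 1 from MonoidHom.ext fun k => by simp, ← Units.val_mul] at h1
    obtain ⟨c, hc⟩ := pc_one_eq σ h1
    have hc0 : c ≠ 0 := fun h0 =>
      ((w : (Module.End ℂ U)ˣ) * (u : (Module.End ℂ U)ˣ)⁻¹).ne_zero (by rw [hc, h0, zero_smul])
    have hw : (w : (Module.End ℂ U)ˣ) = scal (U := U) (Units.mk0 c hc0) * (u : (Module.End ℂ U)ˣ) := by
      rw [← mul_inv_eq_iff_eq_mul]
      exact Units.ext (by rw [scal_val, Units.val_mk0]; exact hc)
    refine ⟨⟨Units.mk0 c hc0, scal_injective (U := U) ?_⟩, hw⟩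
    have h2 := w.2.1
    rw [hw, (scal_comm _ _).mul_pow, u.2.1, mul_one] at h2
    rwa [map_pow, map_one]
  let rep : (K →* ℂˣ) → Eg σ L hodd := fun b =>
    if h : ∃ u, a u = b then h.choose else 1
  have hrep : ∀ w, a (rep (a w)) = a w := fun w => by
    have h : ∃ u, a u = a w := ⟨w, rfl⟩
    simp only [rep, dif_pos h]
    exact h.choose_spec
  refine Finite.of_injective
    (fun w => (a w, (hfib (rep (a w)) w (hrep w)).choose)) fun w w' h => ?_
  have e1 := (hfib (rep (a w)) w (hrep w)).choose_spec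
  have e2 := (hfib (rep (a w')) w' (hrep w')).choose_spec
  simp only [Prod.mk.injEq] at h
  rw [h.2, h.1] at e1
  exact Subtype.ext (e1.trans e2.symm)

end CfsgLib.DegreeTools.OddSection
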